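import Groth.Agent.L09.Artin.Cand.Sec
import Groth.Agent.L09.StkGlue
import Groth.Agent.L24.Boot.LqfBase

/-!
# Objects of a stack with a section over a finite family

The category of objects `ξ` of `𝒳` with a parameter `t` and a lift of `ξ` to `U` over the finite scheme cut out by
`t` is a stack in setoids over `𝒳`, and its sheaf of isomorphism classes is an algebraic space.
-/

set_option autoImplicit false
set_option backward.isDefEq.respectTransparency false
set_option backward.isDefEq.respectTransparency.types false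

universe u

open CategoryTheory CategoryTheory.Limits AlgebraicGeometry Opposite AlgSp

noncomputable section

namespace Groth.L09.Artin.Cand

open Groth.L23.UHPush (isPullback_of_yon)
open Groth.L09.Artin.Res (FLP)

variable {S : Scheme.{u}} {𝒳 : AlgSt.Cat S} {U M Zs : Over S} (f : FibCat.overCat U ⥤ᵇ 𝒳) (π : Zs ⟶ M)

/-- An object with a section. -/
structure CObj : Type (u + 1) where
  R : Over S
  obj : 𝒳.obj
  hR : 𝒳.p.obj obj = R
  s : Sec f π obj R R
  hs : s.g = 𝟙 R

variable {f π}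

/-- A morphism of objects with sections. -/
structure CHom (A B : CObj f π) : Type u where
  k : A.R ⟶ B.R
  φ : A.obj ⟶ B.obj
  lift : 𝒳.p.IsHomLift k φ
  w : haveI := lift; A.s.push φ k = B.s.restr k

attribute [instance] CHom.lift

theorem CHom.ext' {A B : CObj f π} {m m' : CHom A B} (hk : m.k = m'.k) (hφ : m.φ = m'.φ) : m = m' := by
  cases m
  cases m'
  cases hk
  cases hφ
  rfl

/-- The identity. -/
def CHom.id (A : CObj f π) : CHom A A where
  k := 𝟙 A.R
  φ := 𝟙 A.obj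
  lift := IsHomLift.id A.hR
  w := (Sec.push_id A.s A.hR).trans A.s.restr_id.symm

/-- Composition. -/
def CHom.comp {A B C : CObj f π} (m : CHom A B) (n : CHom B C) : CHom A C where
  k := m.k ≫ n.k
  φ := m.φ ≫ n.φ
  lift := inferInstance
  w := by
    rw [← Sec.push_comp, m.w, Sec.push_restr, n.w, Sec.restr_comp]

instance : Category (CObj f π) where
  Hom := CHom
  id := CHom.id
  comp := CHom.comp
  id_comp m := CHom.ext' (Category.id_comp _) (Category.id_comp _)
  comp_id m := CHom.ext' (Category.comp_id _) (Category.comp_id _)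
  assoc m n o := CHom.ext' (Category.assoc _ _ _) (Category.assoc _ _ _)

theorem hom_ext {A B : CObj f π} {m m' : A ⟶ B} (hk : m.k = m'.k) (hφ : m.φ = m'.φ) : m = m' :=
  CHom.ext' hk hφ

variable (f π) in
/-- The category of objects with sections. -/
abbrev Cand : AlgSt.Cat S where
  obj := CObj f π
  p :=
    { obj := fun A => A.R
      map := fun {A B} (m : A ⟶ B) => CHom.k m
      map_id := fun _ => rfl
      map_comp := fun _ _ => rfl }

variable (f π) in
/-- The functor forgetting the section. -/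
def forgetSec : Cand f π ⥤ᵇ 𝒳 where
  toFunctor :=
    { obj := fun A => A.obj
      map := fun {A B} (m : A ⟶ B) => CHom.φ m
      map_id := fun _ => rfl
      map_comp := fun _ _ => rfl }
  w := CategoryTheory.Functor.ext (fun A => A.hR) fun A B m => IsHomLift.fac' 𝒳.p m.k m.φ

instance : (forgetSec f π).toFunctor.Faithful := ⟨fun {A B m m'} e => by
  refine hom_ext ?_ e
  have e' : m.φ = m'.φ := e
  have h1 := IsHomLift.fac 𝒳.p m.k m.φ
  have h2 := IsHomLift.fac 𝒳.p m'.k m'.φ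
  exact h1.trans ((congrArg (fun ψ => eqToHom _ ≫ 𝒳.p.map ψ ≫ eqToHom _) e').trans h2.symm)⟩

theorem exists_lift_to (h : FibCat.IsFibGrpd 𝒳.p) {ξ : 𝒳.obj} {R V : Over S} (hR : 𝒳.p.obj ξ = R) (k : V ⟶ R) :
    ∃ (η : 𝒳.obj) (φ : η ⟶ ξ), 𝒳.p.IsHomLift k φ := by
  subst hR
  exact h.exists_lift k

theorem isFibGrpd_cand (h : FibCat.IsFibGrpd 𝒳.p) : FibCat.IsFibGrpd (Cand f π).p where
  exists_lift {A} {V} k := by
    obtain ⟨η, φ, hφ⟩ := exists_lift_to h A.hR k
    obtain ⟨s, hs, hsp⟩ := Sec.exists_push h φ k (A.s.restr k) (𝟙 V) (by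
      rw [Category.id_comp, Sec.restr_g, A.hs, Category.comp_id])
    let B : CObj f π := ⟨V, η, IsHomLift.domain_eq 𝒳.p k φ, s, hs⟩
    exact ⟨B, (⟨k, φ, hφ, hsp⟩ : CHom B A),
      IsHomLift.map (Cand f π).p (⟨k, φ, hφ, hsp⟩ : B ⟶ A)⟩
  isStronglyCartesian {B A} m :=
    { toIsHomLift := IsHomLift.map (Cand f π).p m
      universal_property' := fun {C} g n hn => by
        have hk : g ≫ m.k = n.k := IsHomLift.eq_of_isHomLift (Cand f π).p (g ≫ (Cand f π).p.map m) n
        change C.R ⟶ B.R at g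
        have := Fib.stronglyCartesian_of_isFibGrpd 𝒳.p h m.k m.φ
        let χ := Functor.IsStronglyCartesian.map 𝒳.p m.k m.φ (g := g) hk.symm n.φ
        have hχ : χ ≫ m.φ = n.φ := Functor.IsStronglyCartesian.fac 𝒳.p m.k m.φ hk.symm n.φ
        have hl : 𝒳.p.IsHomLift g χ := inferInstanceAs (𝒳.p.IsHomLift g χ)
        have w : C.s.push χ g = B.s.restr g := by
          refine Sec.push_injective h m.φ m.k ?_ ?_
          · rw [Sec.push_g, C.hs, Category.id_comp, Sec.restr_g, B.hs, Category.comp_id]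
          · haveI : 𝒳.p.IsHomLift n.k (χ ≫ m.φ) := by rw [hχ]; exact n.lift
            rw [Sec.push_restr, m.w, ← Sec.restr_comp, hk, Sec.push_comp,
              Sec.push_congr (r := g ≫ m.k) (r' := n.k) (φ' := n.φ) hχ, n.w]
        refine ⟨(⟨g, χ, hl, w⟩ : CHom C B),
          ⟨IsHomLift.map (Cand f π).p (⟨g, χ, hl, w⟩ : C ⟶ B), hom_ext hk hχ⟩, ?_⟩
        rintro χ' ⟨hχ', e⟩
        have e1 : g = χ'.k := IsHomLift.eq_of_isHomLift (Cand f π).p g χ'
        have : 𝒳.p.IsHomLift g χ'.φ := by rw [e1]; exact χ'.lift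
        exact hom_ext e1.symm (Functor.IsStronglyCartesian.map_uniq 𝒳.p m.k m.φ hk.symm n.φ χ'.φ
          (congrArg CHom.φ e)) }

section Setoid

variable (hA : Atl f)

theorem prop_fst {P : MorphismProperty Scheme.{u}} [P.IsStableUnderBaseChange] {T : Over S} (t : T ⟶ M)
    (h : P π.left) : P (pullback.fst t π).left :=
  (repWith_yon_map_iff P (pullback.fst t π)).1
    (Groth.L23.repWith_of_isPullback ((IsPullback.of_hasPullback t π).flip.map (yon S)) (Groth.L23.repWith_map h))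

variable [Flat π.left] [LocallyOfFinitePresentation π.left] [Surjective π.left]

include hA in
/-- Morphisms of objects with sections are determined by their base. -/
theorem cand_hom_ext {A B : CObj f π} {m m' : A ⟶ B} (hk : m.k = m'.k) : m = m' := by
  refine hom_ext hk ?_
  have : 𝒳.p.IsHomLift m.k m'.φ := by rw [hk]; exact m'.lift
  obtain ⟨χ, hχ, hχm⟩ := Groth.L09.Gerb.connect hA.grpd m.k m.φ m'.φ
  suffices χ.hom = 𝟙 _ by rw [← hχm, this, Category.id_comp]
  have hw : A.s.push χ.hom (𝟙 A.R) = A.s := by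
    refine Sec.push_injective hA.grpd m'.φ m.k (by rw [Sec.push_g, Category.comp_id]) ?_
    haveI : 𝒳.p.IsHomLift m.k (χ.hom ≫ m'.φ) := by rw [hχm]; exact m.lift
    rw [Sec.push_comp, Sec.push_congr (r := 𝟙 A.R ≫ m.k) (r' := m.k) (φ' := m.φ) hχm, m.w,
      Sec.push_congr (r := m.k) (r' := m'.k) (φ' := m'.φ) rfl, m'.w, hk]
  have := prop_fst (P := @Flat) (π := π) A.s.t inferInstance
  have := prop_fst (P := @LocallyOfFinitePresentation) (π := π) A.s.t inferInstance
  have := prop_fst (P := @Surjective) (π := π) A.s.t inferInstance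
  haveI : 𝒳.p.IsHomLift (𝟙 A.R) (𝟙 A.obj) := IsHomLift.id A.hR
  have hJ := Groth.L24.Boot.fppf_mem_J (pullback.fst A.s.t π)
  refine Groth.L09.Stk.eq_of_locally hA.grpd (U := A.R)
    (R := Sieve.ofArrows (fun _ : PUnit.{1} => pullback A.s.t π) (fun _ => pullback.fst A.s.t π))
    (haveI : (Stk.resSieve (Sieve.ofArrows (fun _ : PUnit.{1} => pullback A.s.t π)
        (fun _ => pullback.fst A.s.t π)) 𝒳).IsEquivalence := hA.stack.2 _ hJ
     inferInstance) χ.hom (𝟙 _) fun W c hc => ?_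
  obtain ⟨_, v, _, ⟨i⟩, rfl⟩ := hc
  have e : (v ≫ pullback.fst A.s.t π) ≫ A.s.t = (v ≫ pullback.snd A.s.t π) ≫ π := by
    rw [Category.assoc, pullback.condition, Category.assoc]
  let p := A.s.h (v ≫ pullback.fst A.s.t π) (v ≫ pullback.snd A.s.t π) e
  have hx : p.x = v ≫ pullback.fst A.s.t π := by rw [A.s.over, A.hs, Category.comp_id]
  obtain ⟨hu, hm⟩ := Pt.ext_m (Sec.congr_h hw (c := v ≫ pullback.fst A.s.t π)
    (z := v ≫ pullback.snd A.s.t π) e e)
  refine ⟨_, p.m, hx ▸ p.lift, ?_⟩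
  rw [Category.comp_id]
  refine hm.trans ?_
  rw [f_map_oeq_refl, Category.id_comp]

include hA in
theorem isFibSetoid_cand : FibCat.IsFibSetoid (Cand f π).p :=
  ⟨isFibGrpd_cand hA.grpd, fun V a b => ⟨fun m n => Functor.Fiber.hom_ext (cand_hom_ext hA (by
    haveI := m.2
    haveI := n.2
    have h1 := IsHomLift.fac' (Cand f π).p (𝟙 V) m.1
    have h2 := IsHomLift.fac' (Cand f π).p (𝟙 V) n.1
    exact h1.trans h2.symm))⟩⟩

end Setoid

section Fp

variable (hA : Atl f) {T : Over S} (y : FibCat.overCat T ⥤ᵇ 𝒳)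

theorem yId_lift : 𝒳.p.IsHomLift (𝟙 T) (𝟙 (y.obj (Over.mk (𝟙 T)))) := IsHomLift.id (y.w_obj _)

attribute [local instance] yId_lift

/-- The comparison arrow of an object of the fibre product. -/
abbrev fpArrow (z : (FibCat.fp y (forgetSec f π)).obj) : z.obj.snd.obj ⟶ y.obj (Over.mk (𝟙 T)) :=
  z.obj.iso.inv ≫ y.map (Over.homMk z.obj.fst.hom (Category.comp_id _) : z.obj.fst ⟶ Over.mk (𝟙 T))

theorem fp_base (z : (FibCat.fp y (forgetSec f π)).obj) : z.obj.fst.left = z.obj.snd.R := by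
  have h : 𝒳.p.IsHomLift (𝟙 z.obj.fst.left) z.obj.iso.hom := z.property
  exact (IsHomLift.codomain_eq 𝒳.p (𝟙 z.obj.fst.left) z.obj.iso.hom).symm.trans z.obj.snd.hR

/-- Its base. -/
abbrev fpBase (z : (FibCat.fp y (forgetSec f π)).obj) : z.obj.snd.R ⟶ T :=
  eqToHom (fp_base y z).symm ≫ z.obj.fst.hom

instance fpArrow_lift (z : (FibCat.fp y (forgetSec f π)).obj) : 𝒳.p.IsHomLift (fpBase y z) (fpArrow y z) := by
  have h : 𝒳.p.IsHomLift (𝟙 z.obj.fst.left) z.obj.iso.hom := z.property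
  have : (FibCat.overCat T).p.IsHomLift z.obj.fst.hom
      (Over.homMk z.obj.fst.hom (Category.comp_id _) : z.obj.fst ⟶ Over.mk (𝟙 T)) :=
    IsHomLift.map (FibCat.overCat T).p (Over.homMk z.obj.fst.hom (Category.comp_id _) : z.obj.fst ⟶ Over.mk (𝟙 T))
  have h' : 𝒳.p.IsHomLift (𝟙 z.obj.fst.left) z.obj.iso.inv := IsHomLift.lift_id_inv 𝒳.p z.obj.fst.left z.obj.iso
  have h'' : 𝒳.p.IsHomLift z.obj.fst.hom (fpArrow y z) :=
    IsHomLift.comp_lift_id_left' 𝒳.p z.obj.fst.left z.obj.iso.inv z.obj.fst.hom _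
  exact (IsHomLift.lift_eqToHom_comp_iff 𝒳.p z.obj.fst.hom (fpArrow y z) (fp_base y z).symm).2 h''

/-- The section of an object of the fibre product. -/
abbrev fpSec (z : (FibCat.fp y (forgetSec f π)).obj) : Sec f π (y.obj (Over.mk (𝟙 T))) T z.obj.snd.R :=
  z.obj.snd.s.push (fpArrow y z) (fpBase y z)

theorem fpSec_g (z : (FibCat.fp y (forgetSec f π)).obj) : (fpSec y z).g = fpBase y z := by
  rw [Sec.push_g, z.obj.snd.hs, Category.id_comp]

theorem fp_w {z w : (FibCat.fp y (forgetSec f π)).obj} (m : z ⟶ w) :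
    m.hom.snd.φ ≫ fpArrow y w = fpArrow y z := by
  have hw : y.map m.hom.fst ≫ w.obj.iso.hom = z.obj.iso.hom ≫ m.hom.snd.φ := m.hom.w
  rw [← cancel_epi z.obj.iso.hom, ← reassoc_of% hw, Iso.hom_inv_id_assoc, Iso.hom_inv_id_assoc]
  exact (y.toFunctor.map_comp _ _).symm.trans (congrArg y.map (Over.OverMorphism.ext (Over.w m.hom.fst)))

/-- The fibre product with the forgetful functor maps to sections. -/
def secFun : FibCat.fp y (forgetSec f π) ⥤ᵇ Stk.ofPsh (SP f π (y.obj (Over.mk (𝟙 T))) T) where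
  toFunctor :=
    { obj := fun z => ⟨z.obj.snd.R, fpSec y z⟩
      map := fun {z w} m => ⟨m.hom.snd.k, by
        show (fpSec y w).restr m.hom.snd.k = fpSec y z
        haveI : 𝒳.p.IsHomLift (m.hom.snd.k ≫ fpBase y w) (m.hom.snd.φ ≫ fpArrow y w) := inferInstance
        rw [← Sec.push_restr, ← m.hom.snd.w, Sec.push_comp]
        exact Sec.push_congr (fp_w y m) _⟩
      map_id := fun z => Stk.EltObj.hom_ext rfl
      map_comp := fun m n => Stk.EltObj.hom_ext rfl }
  w := CategoryTheory.Functor.ext (fun z => (fp_base y z).symm) fun z w m => by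
    have h : (Cand f π).p.IsHomLift m.hom.fst.left m.hom.snd := FibCat.fp_isHomLift_snd y (forgetSec f π) m
    exact IsHomLift.fac' (Cand f π).p m.hom.fst.left m.hom.snd

theorem secFun_full (h : FibCat.IsFibGrpd 𝒳.p) : (secFun y (f := f) (π := π)).toFunctor.Full := ⟨fun {z w} t => by
  let k : z.obj.snd.R ⟶ w.obj.snd.R := t.hom
  have ht : (fpSec y w).restr k = fpSec y z := t.map_sec
  have hg : k ≫ fpBase y w = fpBase y z := by rw [← fpSec_g, ← fpSec_g, ← Sec.restr_g, ht]
  let a : z.obj.fst ⟶ w.obj.fst := Over.homMk (eqToHom (fp_base y z) ≫ k ≫ eqToHom (fp_base y w).symm) (by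
    rw [Category.assoc, Category.assoc, hg]; simp)
  let φ : z.obj.snd.obj ⟶ w.obj.snd.obj := z.obj.iso.inv ≫ y.map a ≫ w.obj.iso.hom
  have hz : 𝒳.p.IsHomLift (𝟙 z.obj.fst.left) z.obj.iso.hom := z.property
  have hw : 𝒳.p.IsHomLift (𝟙 w.obj.fst.left) w.obj.iso.hom := w.property
  have hz' : 𝒳.p.IsHomLift (𝟙 z.obj.fst.left) z.obj.iso.inv := IsHomLift.lift_id_inv 𝒳.p z.obj.fst.left z.obj.iso
  have ha : (FibCat.overCat T).p.IsHomLift a.left a := IsHomLift.map (FibCat.overCat T).p a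
  have : 𝒳.p.IsHomLift a.left (y.map a ≫ w.obj.iso.hom) := IsHomLift.comp_lift_id_right 𝒳.p a.left _ _
  have hφ₀ : 𝒳.p.IsHomLift a.left φ := IsHomLift.comp_lift_id_left' 𝒳.p z.obj.fst.left _ a.left _
  have hφ : 𝒳.p.IsHomLift k φ := by
    have h1 : 𝒳.p.IsHomLift (eqToHom (fp_base y z) ≫ k ≫ eqToHom (fp_base y w).symm) φ := hφ₀
    rwa [IsHomLift.lift_eqToHom_comp_iff, IsHomLift.lift_comp_eqToHom_iff] at h1
  have hw2 : φ ≫ fpArrow y w = fpArrow y z := by
    simp only [φ, Category.assoc]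
    rw [Iso.hom_inv_id_assoc]
    exact congrArg (z.obj.iso.inv ≫ ·) ((y.toFunctor.map_comp _ _).symm.trans
      (congrArg y.map (Over.OverMorphism.ext (Over.w a))))
  have hwc : z.obj.snd.s.push φ k = w.obj.snd.s.restr k := by
    refine Sec.push_injective h (fpArrow y w) (fpBase y w) ?_ ?_
    · rw [Sec.push_g, Sec.restr_g, z.obj.snd.hs, w.obj.snd.hs, Category.id_comp, Category.comp_id]
    · rw [Sec.push_restr, Sec.push_comp]
      exact (Sec.push_congr hw2 _).trans ht.symm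
  let b : z.obj.snd ⟶ w.obj.snd := ⟨k, φ, hφ, hwc⟩
  refine ⟨Groth.L24.St.fpHom (F := y) (G := forgetSec f π) a b ?_, Stk.EltObj.hom_ext rfl⟩
  show y.map a ≫ w.obj.iso.hom = z.obj.iso.hom ≫ φ
  simp [φ]⟩

theorem secFun_faithful : (secFun y (f := f) (π := π)).toFunctor.Faithful := ⟨fun {z w m n} e => by
  have hk : m.hom.snd.k = n.hom.snd.k := congrArg Stk.EltObj.Hom.hom e
  have hm : (Cand f π).p.IsHomLift m.hom.fst.left m.hom.snd := FibCat.fp_isHomLift_snd y (forgetSec f π) m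
  have hn : (Cand f π).p.IsHomLift n.hom.fst.left n.hom.snd := FibCat.fp_isHomLift_snd y (forgetSec f π) n
  have h1 := IsHomLift.fac (Cand f π).p m.hom.fst.left m.hom.snd
  have h2 := IsHomLift.fac (Cand f π).p n.hom.fst.left n.hom.snd
  have hk' : (Cand f π).p.map m.hom.snd = (Cand f π).p.map n.hom.snd := hk
  rw [hk'] at h1
  have hf : m.hom.fst = n.hom.fst := Over.OverMorphism.ext (h1.trans h2.symm)
  refine Groth.L24.St.fp_ext hf (hom_ext hk ?_)
  have w1 : y.map m.hom.fst ≫ w.obj.iso.hom = z.obj.iso.hom ≫ m.hom.snd.φ := m.hom.w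
  have w2 : y.map n.hom.fst ≫ w.obj.iso.hom = z.obj.iso.hom ≫ n.hom.snd.φ := n.hom.w
  rw [hf, w2] at w1
  exact ((cancel_epi _).1 w1).symm⟩

include hA in
theorem secFun_isEquivOver : FibCat.IsEquivOver (secFun y (f := f) (π := π)) := by
  have := secFun_full y hA.grpd (f := f) (π := π)
  have := secFun_faithful y (f := f) (π := π)
  refine Groth.L24.St.isEquivOver_of_overId _ fun ⟨T', s⟩ => ?_
  change Sec f π _ T T' at s
  obtain ⟨s', hs', hsp⟩ := Sec.exists_push hA.grpd (yArrow y (𝟙 (y.obj (Over.mk (𝟙 T)))) s.g) s.g s (𝟙 T')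
    (Category.id_comp _)
  let A : CObj f π := ⟨T', y.obj (Over.mk s.g), y.w_obj _, s', hs'⟩
  let z : (FibCat.fp y (forgetSec f π)).obj :=
    Groth.L24.St.fpObj (F := y) (G := forgetSec f π) (Over.mk s.g) A (Iso.refl _) (Groth.L24.St.overId_id _)
  refine ⟨z, Groth.L24.St.eltIso (a := (secFun y).obj z) (b := ⟨T', s⟩) rfl ?_, Groth.L24.St.eltIso_overId _ _⟩
  show s.restr (𝟙 T') = fpSec y z
  rw [Sec.restr_id, ← hsp]
  refine Sec.push_congr ?_ _
  show yArrow y _ s.g = 𝟙 _ ≫ _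
  rw [Category.id_comp]
  exact Category.comp_id _

variable [IsFinite π.left] [Flat π.left] [LocallyOfFinitePresentation π.left]

end Fp

section Stack

variable (hA : Atl f)

include hA in
theorem isStack_cand : Stk.IsStack (AlgSp.J S) (Cand f π) := by
  refine Groth.L24.St.isStack_of_fp (j := forgetSec f π) (isFibGrpd_cand hA.grpd) hA.stack fun T y => ?_
  have h : Stk.IsStack (AlgSp.J S) (Stk.ofPsh (SP f π (y.obj (Over.mk (𝟙 T))) T)) :=
    (Groth.L24.St.isStack_ofPsh_iff _).2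
      ((isSheaf_iff_isSheaf_of_type _ _).1 (isSheaf_SP hA (y.w_obj _)))
  exact (Groth.L09.Fib.isStack_iff _ (secFun_isEquivOver hA y)).2 h

include hA in
theorem isSheaf_classPsh [Flat π.left] [LocallyOfFinitePresentation π.left] [Surjective π.left] :
    Presheaf.IsSheaf (J S) (Groth.L24.St.classPsh (isFibGrpd_cand (f := f) (π := π) hA.grpd)) :=
  (isSheaf_iff_isSheaf_of_type _ _).2 ((Groth.L24.St.isStack_ofPsh_iff _).1
    ((Groth.L09.Fib.isStack_iff _ (Groth.L24.St.toClassPsh_isEquivOver _ (isFibSetoid_cand hA))).1 (isStack_cand hA)))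

end Stack

end Groth.L09.Artin.Cand
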