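import Groth.Agent.L09.Artin.Cand.Pt
import Groth.Agent.L09.Artin.Res.Local
import Groth.Agent.L23.UHPushProps

/-!
# The algebraic space of lifts
-/

set_option autoImplicit false
set_option backward.isDefEq.respectTransparency false
set_option backward.isDefEq.respectTransparency.types false

universe u

open CategoryTheory CategoryTheory.Limits AlgebraicGeometry Opposite AlgSp

noncomputable section

namespace Groth.L09.Artin.Cand

open Groth.L09.Artin.Res (FLP)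
open Groth.L23.UHPush (isPullback_of_yon)

variable {S : Scheme.{u}} {𝒳 : AlgSt.Cat S} {U : Over S}

/-- A flat surjective map of finite presentation from a scheme to a stack. -/
structure Atl (f : FibCat.overCat U ⥤ᵇ 𝒳) : Prop where
  stack : Stk.IsStack (AlgSp.J S) 𝒳
  flp : AlgSt.RepByAlgSpWith FLP f
  surj : AlgSt.RepByAlgSpWith IsSurjectiveMor f

theorem Atl.grpd {f : FibCat.overCat U ⥤ᵇ 𝒳} (hA : Atl f) : FibCat.IsFibGrpd 𝒳.p := hA.stack.1

variable {f : FibCat.overCat U ⥤ᵇ 𝒳} (hA : Atl f) {ξ η : 𝒳.obj} {R R' : Over S}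

include hA in
theorem exists_fun_of_obj (hR : 𝒳.p.obj ξ = R) :
    ∃ (y : FibCat.overCat R ⥤ᵇ 𝒳) (e : y.obj (Over.mk (𝟙 R)) ⟶ ξ), 𝒳.p.IsHomLift (𝟙 R) e := by
  have := Groth.L09.Fib.isFibered_of_isFibGrpd _ hA.stack.1
  obtain ⟨i⟩ := Groth.L09.Fib.evalAtId_ofObj (U := R) (⟨ξ, hR⟩ : 𝒳.p.Fiber R)
  exact ⟨Groth.L09.Fib.ofObj hR, i.hom.1, i.hom.2⟩

include hA in
theorem repByAlgSp_K (hR : 𝒳.p.obj ξ = R) : AlgSt.RepByAlgSp (Stk.ofPsh (K f ξ R)) := by
  obtain ⟨y, e, he⟩ := exists_fun_of_obj hA hR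
  exact (Groth.L24.St.repByAlgSp_of_equiv (ptFun_isEquivOver hA.grpd y e (f := f))).2
    (Groth.L24.St.repWith_rep1 hA.flp R y)

include hA in
theorem isAlgSpaceP_K (hR : 𝒳.p.obj ξ = R) : IsAlgSpaceP (K f ξ R) := by
  obtain ⟨F, e, he⟩ := repByAlgSp_K hA hR
  have := Groth.L24.St.isIso_pshMapOf he
  exact ((isAlgSpaceP_obj_iff _).2 F.property).of_iso (asIso (Groth.L24.St.pshMapOf e))

include hA in
theorem isSheaf_K (hR : 𝒳.p.obj ξ = R) : Presheaf.IsSheaf (J S) (K f ξ R) := (isAlgSpaceP_K hA hR).1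

/-- The space of lifts. -/
def KSp (hR : 𝒳.p.obj ξ = R) : Sp S := ⟨K f ξ R, isSheaf_K hA hR⟩

variable (hR : 𝒳.p.obj ξ = R) (hR' : 𝒳.p.obj η = R')

theorem isAlgSpace_KSp : IsAlgSpace (KSp hA hR) := (isAlgSpaceP_obj_iff (KSp hA hR)).1 (isAlgSpaceP_K hA hR)

/-- The projection to the base. -/
def xK : KSp hA hR ⟶ (yon S).obj R := ObjectProperty.homMk
  { app := fun _ => ↾fun p => ⟨p.down.x⟩
    naturality := fun _ _ _ => rfl }

/-- The projection to the atlas. -/
def uK : KSp hA hR ⟶ (yon S).obj U := ObjectProperty.homMk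
  { app := fun _ => ↾fun p => ⟨p.down.u⟩
    naturality := fun _ _ _ => rfl }

/-- Composition with an arrow. -/
def kPush (φ : η ⟶ ξ) (r : R' ⟶ R) [𝒳.p.IsHomLift r φ] : KSp hA hR' ⟶ KSp hA hR := ObjectProperty.homMk
  { app := fun _ => ↾fun p => ⟨p.down.push φ r⟩
    naturality := fun _ _ k => by
      ext p : 3
      exact congrArg ULift.up (Pt.push_restr φ r k.unop p.down) }

/-- Points of the space of lifts. -/
def ptEquiv {T : Over S} : ((yon S).obj T ⟶ KSp hA hR) ≃ Pt f ξ R T :=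
  ((J S).uliftYonedaEquiv.{u + 1}).trans Equiv.ulift

theorem ptEquiv_comp {T T' : Over S} (k : T' ⟶ T) (l : (yon S).obj T ⟶ KSp hA hR) :
    ptEquiv hA hR ((yon S).map k ≫ l) = (ptEquiv hA hR l).restr k :=
  (congrArg ULift.down ((J S).uliftYonedaEquiv_naturality l k).symm).trans rfl

theorem comp_xK {T : Over S} (l : (yon S).obj T ⟶ KSp hA hR) :
    l ≫ xK hA hR = (yon S).map (ptEquiv hA hR l).x := by
  refine (J S).uliftYonedaEquiv.injective ?_
  rw [GrothendieckTopology.uliftYonedaEquiv_comp, GrothendieckTopology.uliftYonedaEquiv_uliftYoneda_map]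
  rfl

theorem comp_uK {T : Over S} (l : (yon S).obj T ⟶ KSp hA hR) :
    l ≫ uK hA hR = (yon S).map (ptEquiv hA hR l).u := by
  refine (J S).uliftYonedaEquiv.injective ?_
  rw [GrothendieckTopology.uliftYonedaEquiv_comp, GrothendieckTopology.uliftYonedaEquiv_uliftYoneda_map]
  rfl

theorem comp_kPush (φ : η ⟶ ξ) (r : R' ⟶ R) [𝒳.p.IsHomLift r φ] {T : Over S}
    (l : (yon S).obj T ⟶ KSp hA hR') :
    ptEquiv hA hR (l ≫ kPush hA hR hR' φ r) = (ptEquiv hA hR' l).push φ r :=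
  (congrArg ULift.down ((J S).uliftYonedaEquiv_comp l (kPush hA hR hR' φ r))).trans rfl

theorem kPush_uK (φ : η ⟶ ξ) (r : R' ⟶ R) [𝒳.p.IsHomLift r φ] :
    kPush hA hR hR' φ r ≫ uK hA hR = uK hA hR' :=
  Groth.L23.hom_ext_yon fun T l => by
    rw [← Category.assoc, comp_uK, comp_uK, comp_kPush]
    rfl

/-- The space of lifts of a pullback of the object is the base change. -/
theorem isPullback_kPush (φ : η ⟶ ξ) (r : R' ⟶ R) [𝒳.p.IsHomLift r φ] :
    IsPullback (kPush hA hR hR' φ r) (xK hA hR') (xK hA hR) ((yon S).map r) := by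
  refine isPullback_of_yon ?_ (fun Z k k' h₁ h₂ => ?_) fun Z p z hz => ?_
  · refine Groth.L23.hom_ext_yon fun T l => ?_
    rw [← Category.assoc, comp_xK, comp_kPush, ← Category.assoc, comp_xK, ← Functor.map_comp]
    rfl
  · apply (ptEquiv hA hR').injective
    rw [comp_xK, comp_xK] at h₂
    refine Pt.push_injective hA.grpd φ r ((yon S).map_injective h₂) ?_
    rw [← comp_kPush hA hR hR', ← comp_kPush hA hR hR', h₁]
  · obtain ⟨z, rfl⟩ := (yon S).map_surjective z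
    rw [comp_xK, ← Functor.map_comp] at hz
    obtain ⟨q, hq, hqp⟩ := Pt.exists_push hA.grpd φ r (ptEquiv hA hR p) z ((yon S).map_injective hz).symm
    refine ⟨(ptEquiv hA hR').symm q, (ptEquiv hA hR).injective ?_, ?_⟩
    · rw [comp_kPush, Equiv.apply_symm_apply, hqp]
    · rw [comp_xK, Equiv.apply_symm_apply, hq]

theorem prop_xK {P : MorphismProperty (Sp S)}
    (hP : ∀ ⦃F F' : Sp S⦄ ⦃T : Over S⦄, IsAlgSpace F → IsAlgSpace F' → ∀ (i : F' ⟶ F), IsIso i →
      ∀ a : F ⟶ (yon S).obj T, P a → P (i ≫ a)) (hf : AlgSt.RepByAlgSpWith P f) : P (xK hA hR) := by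
  obtain ⟨y, e, he⟩ := exists_fun_of_obj hA hR
  have h := Groth.L24.St.Wit.prop_of_equiv (fun F F' hF hF' i hi a => hP hF hF' i hi a) (hf R y)
    (isAlgSpace_KSp hA hR) (ptFun hA.grpd y e (f := f)) (ptFun_isEquivOver hA.grpd y e)
  convert h using 1
  apply ObjectProperty.hom_ext
  exact (spMap_ptFun hA.grpd y e (isSheaf_K hA hR)).symm

theorem flp_xK : FLP (xK hA hR) :=
  prop_xK hA hR (fun _ _ _ _ _ i _ a h =>
    ⟨fun _ _ α b k hα hb w => h.1 (α ≫ i) b k (Groth.L23.repWith_comp hα (Groth.L23.repWith_of_isIso i)) hb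
      (by rw [Category.assoc, w]),
      fun _ _ α b k hα hb w => h.2 (α ≫ i) b k (Groth.L23.repWith_comp hα (Groth.L23.repWith_of_isIso i)) hb
      (by rw [Category.assoc, w])⟩) hA.flp

theorem surj_xK : IsSurjectiveMor (xK hA hR) :=
  prop_xK hA hR (fun _ _ _ _ _ i _ a h y => by
    obtain ⟨x, rfl⟩ := h y
    refine ⟨Points.map (inv i) x, ?_⟩
    rw [← Points.map_comp, IsIso.inv_hom_id_assoc]) hA.surj

end Groth.L09.Artin.Cand
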