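import Groth.Agent.L09.GerbBasic
import Groth.Agent.L24.St.FlatCover
import Groth.Agent.L24.St.StackSp

/-!
# The presheaf of lifts of an object along a map from a scheme

For `f : (Sch/U) ⟶ 𝒳` and an object `ξ` over `R` the sections over `T` are triples of a map `x : T ⟶ R`, a map
`u : T ⟶ U` and an arrow `f(u) ⟶ ξ` over `x`; this presheaf represents the fibre product of `f` with `ξ`.
-/

set_option autoImplicit false
set_option backward.isDefEq.respectTransparency false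
set_option backward.isDefEq.respectTransparency.types false

universe u

open CategoryTheory CategoryTheory.Limits AlgebraicGeometry Opposite AlgSp

noncomputable section

namespace Groth.L09.Artin.Cand

variable {S : Scheme.{u}} {𝒳 : AlgSt.Cat S} {U : Over S} (f : FibCat.overCat U ⥤ᵇ 𝒳)

/-- A lift of `ξ` to `U`. -/
structure Pt (ξ : 𝒳.obj) (R T : Over S) : Type u where
  x : T ⟶ R
  u : T ⟶ U
  m : f.obj (Over.mk u) ⟶ ξ
  lift : 𝒳.p.IsHomLift x m

attribute [instance] Pt.lift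

variable {f}

/-- The morphism of the slice attached to a composite. -/
abbrev om {T T' : Over S} (k : T' ⟶ T) (v : T ⟶ U) : (Over.mk (k ≫ v) : Over U) ⟶ Over.mk v := Over.homMk k rfl

instance om_lift {T T' : Over S} (k : T' ⟶ T) (v : T ⟶ U) : 𝒳.p.IsHomLift k (f.map (om k v)) :=
  have : (FibCat.overCat U).p.IsHomLift k (om k v) := IsHomLift.map (FibCat.overCat U).p (om k v)
  inferInstance

/-- The identification of the values at equal maps. -/
abbrev oeq {T : Over S} {v v' : T ⟶ U} (h : v = v') : (Over.mk v : Over U) ⟶ Over.mk v' :=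
  Over.homMk (𝟙 T) (by simp [h])

instance oeq_lift {T : Over S} {v v' : T ⟶ U} (h : v = v') : 𝒳.p.IsHomLift (𝟙 T) (f.map (oeq h)) :=
  have : (FibCat.overCat U).p.IsHomLift (𝟙 T) (oeq h) := IsHomLift.map (FibCat.overCat U).p (oeq h)
  inferInstance

theorem f_map_congr {a b : Over U} {m m' : a ⟶ b} (h : m.left = m'.left) : f.map m = f.map m' :=
  congrArg f.map (Over.OverMorphism.ext h)

theorem f_map_comp {a b c : Over U} (m : a ⟶ b) (m' : b ⟶ c) : f.map (m ≫ m') = f.map m ≫ f.map m' :=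
  f.toFunctor.map_comp m m'

theorem f_map_oeq_refl {T : Over S} (v : T ⟶ U) : f.map (oeq (rfl : v = v)) = 𝟙 _ :=
  (f_map_congr rfl).trans (f.toFunctor.map_id _)

namespace Pt

variable {ξ η : 𝒳.obj} {R R' T T' T'' : Over S}

theorem ext {p q : Pt f ξ R T} (hx : p.x = q.x) (hu : p.u = q.u) (hm : p.m = f.map (oeq hu) ≫ q.m) : p = q := by
  obtain ⟨x, v, m, hl⟩ := p
  obtain ⟨x', v', m', hl'⟩ := q
  change x = x' at hx
  change v = v' at hu
  subst hx hu
  change m = f.map (oeq rfl) ≫ m' at hm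
  rw [f_map_oeq_refl, Category.id_comp] at hm
  subst hm
  rfl

theorem ext_m {p q : Pt f ξ R T} (h : p = q) : ∃ hu : p.u = q.u, p.m = f.map (oeq hu) ≫ q.m := by
  subst h
  exact ⟨rfl, by rw [f_map_oeq_refl, Category.id_comp]⟩

/-- Restriction. -/
def restr (k : T' ⟶ T) (p : Pt f ξ R T) : Pt f ξ R T' :=
  ⟨k ≫ p.x, k ≫ p.u, f.map (om k p.u) ≫ p.m, inferInstance⟩

@[simp] theorem restr_x (k : T' ⟶ T) (p : Pt f ξ R T) : (p.restr k).x = k ≫ p.x := rfl
@[simp] theorem restr_u (k : T' ⟶ T) (p : Pt f ξ R T) : (p.restr k).u = k ≫ p.u := rfl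
theorem restr_m (k : T' ⟶ T) (p : Pt f ξ R T) : (p.restr k).m = f.map (om k p.u) ≫ p.m := rfl

theorem restr_id (p : Pt f ξ R T) : p.restr (𝟙 T) = p :=
  ext (Category.id_comp _) (Category.id_comp _)
    (congrArg (· ≫ p.m) (f_map_congr rfl))

theorem restr_comp (k : T'' ⟶ T') (l : T' ⟶ T) (p : Pt f ξ R T) : p.restr (k ≫ l) = (p.restr l).restr k :=
  ext (Category.assoc _ _ _) (Category.assoc _ _ _) (by
    simp only [restr_m, restr_u, ← Category.assoc, ← f_map_comp]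
    exact congrArg (· ≫ p.m) (f_map_congr (Category.id_comp _).symm))

/-- Composition with an arrow. -/
def push (φ : η ⟶ ξ) (r : R' ⟶ R) [𝒳.p.IsHomLift r φ] (p : Pt f η R' T) : Pt f ξ R T :=
  ⟨p.x ≫ r, p.u, p.m ≫ φ, inferInstance⟩

@[simp] theorem push_x (φ : η ⟶ ξ) (r : R' ⟶ R) [𝒳.p.IsHomLift r φ] (p : Pt f η R' T) :
    (p.push φ r).x = p.x ≫ r := rfl
@[simp] theorem push_u (φ : η ⟶ ξ) (r : R' ⟶ R) [𝒳.p.IsHomLift r φ] (p : Pt f η R' T) : (p.push φ r).u = p.u := rfl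
theorem push_m (φ : η ⟶ ξ) (r : R' ⟶ R) [𝒳.p.IsHomLift r φ] (p : Pt f η R' T) : (p.push φ r).m = p.m ≫ φ := rfl

theorem push_restr (φ : η ⟶ ξ) (r : R' ⟶ R) [𝒳.p.IsHomLift r φ] (k : T' ⟶ T) (p : Pt f η R' T) :
    (p.restr k).push φ r = (p.push φ r).restr k :=
  ext (Category.assoc _ _ _) rfl (by
    rw [f_map_oeq_refl, Category.id_comp, push_m, restr_m, restr_m, push_m, Category.assoc])

theorem push_comp {ζ : 𝒳.obj} {R'' : Over S} (ψ : ζ ⟶ η) (r' : R'' ⟶ R') [𝒳.p.IsHomLift r' ψ] (φ : η ⟶ ξ)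
    (r : R' ⟶ R) [𝒳.p.IsHomLift r φ] (p : Pt f ζ R'' T) :
    (p.push ψ r').push φ r = p.push (ψ ≫ φ) (r' ≫ r) :=
  ext (Category.assoc _ _ _) rfl (by
    rw [f_map_oeq_refl, Category.id_comp, push_m, push_m, push_m, Category.assoc])

theorem push_id (p : Pt f ξ R T) (hR : 𝒳.p.obj ξ = R) :
    haveI := IsHomLift.id hR (p := 𝒳.p)
    p.push (𝟙 ξ) (𝟙 R) = p :=
  haveI := IsHomLift.id hR (p := 𝒳.p)
  ext (Category.comp_id _) rfl (by rw [f_map_oeq_refl, Category.id_comp, push_m, Category.comp_id])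

theorem push_congr {φ φ' : η ⟶ ξ} {r r' : R' ⟶ R} [𝒳.p.IsHomLift r φ] [𝒳.p.IsHomLift r' φ'] (e : φ = φ')
    (p : Pt f η R' T) : p.push φ r = p.push φ' r' := by
  subst e
  obtain rfl : r = r' := by
    have hd : 𝒳.p.obj η = R' := IsHomLift.domain_eq 𝒳.p r φ
    have hc : 𝒳.p.obj ξ = R := IsHomLift.codomain_eq 𝒳.p r φ
    subst hd hc
    exact (IsHomLift.eq_of_isHomLift 𝒳.p r φ).trans (IsHomLift.eq_of_isHomLift 𝒳.p r' φ).symm
  rfl

/-- Arrows being cartesian, lifts of the target give lifts of the source. -/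
theorem push_injective (h : FibCat.IsFibGrpd 𝒳.p) (φ : η ⟶ ξ) (r : R' ⟶ R) [𝒳.p.IsHomLift r φ]
    {p q : Pt f η R' T} (hx : p.x = q.x) (e : p.push φ r = q.push φ r) : p = q := by
  obtain ⟨hu, hm⟩ := ext_m e
  refine ext hx hu ?_
  have := Fib.stronglyCartesian_of_isFibGrpd 𝒳.p h r φ
  have h2 : 𝒳.p.IsHomLift p.x (f.map (oeq hu) ≫ q.m) := by
    rw [hx]; exact IsHomLift.comp_lift_id_left' 𝒳.p T _ q.x q.m
  refine Functor.IsStronglyCartesian.ext 𝒳.p r φ p.x ?_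
  rw [push_m, push_m] at hm
  rw [Category.assoc]
  exact hm

theorem exists_push (h : FibCat.IsFibGrpd 𝒳.p) (φ : η ⟶ ξ) (r : R' ⟶ R) [𝒳.p.IsHomLift r φ] (p : Pt f ξ R T)
    (x : T ⟶ R') (e : x ≫ r = p.x) : ∃ q : Pt f η R' T, q.x = x ∧ q.push φ r = p := by
  have := Fib.stronglyCartesian_of_isFibGrpd 𝒳.p h r φ
  let m := Functor.IsStronglyCartesian.map 𝒳.p r φ (g := x) e.symm p.m
  have hm : m ≫ φ = p.m := Functor.IsStronglyCartesian.fac 𝒳.p r φ e.symm p.m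
  exact ⟨⟨x, p.u, m, inferInstanceAs (𝒳.p.IsHomLift x m)⟩, rfl,
    ext e rfl (by rw [f_map_oeq_refl, Category.id_comp, push_m]; exact hm)⟩

end Pt

variable (f) in
/-- The presheaf of lifts. -/
def K (ξ : 𝒳.obj) (R : Over S) : PSp S where
  obj T := ULift.{u + 1} (Pt f ξ R T.unop)
  map k := ↾fun p => ⟨p.down.restr k.unop⟩
  map_id T := by
    ext p : 3
    exact congrArg ULift.up (Pt.restr_id p.down)
  map_comp k l := by
    ext p : 3
    exact congrArg ULift.up (Pt.restr_comp l.unop k.unop p.down)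

section Fp

variable (h𝒳 : FibCat.IsFibGrpd 𝒳.p) {R : Over S} (y : FibCat.overCat R ⥤ᵇ 𝒳) {ξ : 𝒳.obj}
  (e : y.obj (Over.mk (𝟙 R)) ⟶ ξ) [𝒳.p.IsHomLift (𝟙 R) e]

/-- The arrow to `ξ` from the value of `y`. -/
abbrev yArrow {T : Over S} (x : T ⟶ R) : y.obj (Over.mk x) ⟶ ξ :=
  y.map (Over.homMk x (Category.comp_id x) : Over.mk x ⟶ Over.mk (𝟙 R)) ≫ e

instance yArrow_lift {T : Over S} (x : T ⟶ R) : 𝒳.p.IsHomLift x (yArrow y e x) :=
  have : (FibCat.overCat R).p.IsHomLift x (Over.homMk x (Category.comp_id x) : Over.mk x ⟶ Over.mk (𝟙 R)) :=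
    IsHomLift.map (FibCat.overCat R).p (Over.homMk x (Category.comp_id x) : Over.mk x ⟶ Over.mk (𝟙 R))
  inferInstanceAs (𝒳.p.IsHomLift x (_ ≫ e))

theorem yArrow_comp {T T' : Over S} (k : T' ⟶ T) (x : T ⟶ R) (x' : T' ⟶ R) (h : k ≫ x = x') :
    y.map (Over.homMk k h : Over.mk x' ⟶ Over.mk x) ≫ yArrow y e x = yArrow y e x' := by
  rw [← Category.assoc]
  exact congrArg (· ≫ e) ((y.toFunctor.map_comp _ _).symm.trans
    (congrArg y.map (Over.OverMorphism.ext h)))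

include h𝒳 in
theorem exists_iso {T : Over S} (p : Pt f ξ R T) :
    ∃ i : y.obj (Over.mk p.x) ≅ f.obj (Over.mk p.u), 𝒳.p.IsHomLift (𝟙 T) i.hom ∧ i.hom ≫ p.m = yArrow y e p.x :=
  Groth.L09.Gerb.connect h𝒳 p.x (yArrow y e p.x) p.m

/-- The isomorphism given by a lift. -/
def ptIso {T : Over S} (p : Pt f ξ R T) : y.obj (Over.mk p.x) ≅ f.obj (Over.mk p.u) :=
  (exists_iso h𝒳 y e p).choose

instance ptIso_lift {T : Over S} (p : Pt f ξ R T) : 𝒳.p.IsHomLift (𝟙 T) (ptIso h𝒳 y e p).hom :=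
  (exists_iso h𝒳 y e p).choose_spec.1

theorem ptIso_comp {T : Over S} (p : Pt f ξ R T) : (ptIso h𝒳 y e p).hom ≫ p.m = yArrow y e p.x :=
  (exists_iso h𝒳 y e p).choose_spec.2

/-- The object of the fibre product given by a lift. -/
def ptObj (a : Stk.EltObj (K f ξ R)) : (FibCat.fp y f).obj :=
  Groth.L24.St.fpObj (F := y) (G := f) (Over.mk a.sec.down.x) (Over.mk a.sec.down.u) (ptIso h𝒳 y e a.sec.down)
    (Groth.L24.St.overId_of_lift (ptIso_lift h𝒳 y e a.sec.down))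

theorem ptHom_w {a b : Stk.EltObj (K f ξ R)} (k : a ⟶ b) :
    y.map (Over.homMk k.hom (congrArg (fun z : ULift.{u + 1} (Pt f ξ R a.base) => z.down.x) k.map_sec) :
        Over.mk a.sec.down.x ⟶ Over.mk b.sec.down.x) ≫ (ptIso h𝒳 y e b.sec.down).hom =
      (ptIso h𝒳 y e a.sec.down).hom ≫
        f.map (Over.homMk k.hom (congrArg (fun z : ULift.{u + 1} (Pt f ξ R a.base) => z.down.u) k.map_sec) :
          Over.mk a.sec.down.u ⟶ Over.mk b.sec.down.u) := by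
  set p := a.sec.down
  set q := b.sec.down
  have hx : k.hom ≫ q.x = p.x := congrArg (fun z : ULift.{u + 1} (Pt f ξ R a.base) => z.down.x) k.map_sec
  have hu : k.hom ≫ q.u = p.u := congrArg (fun z : ULift.{u + 1} (Pt f ξ R a.base) => z.down.u) k.map_sec
  obtain ⟨hu', hm⟩ := Pt.ext_m (congrArg ULift.down k.map_sec.symm)
  have := Fib.stronglyCartesian_of_isFibGrpd 𝒳.p h𝒳 q.x q.m
  have l1 : 𝒳.p.IsHomLift k.hom (y.map (Over.homMk k.hom hx : Over.mk p.x ⟶ Over.mk q.x)) :=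
    have : (FibCat.overCat R).p.IsHomLift k.hom (Over.homMk k.hom hx : Over.mk p.x ⟶ Over.mk q.x) :=
      IsHomLift.map (FibCat.overCat R).p (Over.homMk k.hom hx : Over.mk p.x ⟶ Over.mk q.x)
    inferInstance
  have l2 : 𝒳.p.IsHomLift k.hom (f.map (Over.homMk k.hom hu : Over.mk p.u ⟶ Over.mk q.u)) :=
    have : (FibCat.overCat U).p.IsHomLift k.hom (Over.homMk k.hom hu : Over.mk p.u ⟶ Over.mk q.u) :=
      IsHomLift.map (FibCat.overCat U).p (Over.homMk k.hom hu : Over.mk p.u ⟶ Over.mk q.u)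
    inferInstance
  have : 𝒳.p.IsHomLift k.hom
      (y.map (Over.homMk k.hom hx : Over.mk p.x ⟶ Over.mk q.x) ≫ (ptIso h𝒳 y e q).hom) :=
    IsHomLift.comp_lift_id_right 𝒳.p k.hom _ _
  have : 𝒳.p.IsHomLift k.hom
      ((ptIso h𝒳 y e p).hom ≫ f.map (Over.homMk k.hom hu : Over.mk p.u ⟶ Over.mk q.u)) :=
    IsHomLift.comp_lift_id_left' 𝒳.p a.base _ k.hom _
  refine Functor.IsStronglyCartesian.ext 𝒳.p q.x q.m k.hom ?_
  have e2 : f.map (Over.homMk k.hom hu : Over.mk p.u ⟶ Over.mk q.u) ≫ q.m = p.m := by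
    refine Eq.trans ?_ hm.symm
    show _ = f.map (oeq hu') ≫ f.map (om k.hom q.u) ≫ q.m
    rw [← Category.assoc, ← f_map_comp]
    exact congrArg (· ≫ q.m) (f_map_congr (Category.id_comp _).symm)
  rw [Category.assoc, ptIso_comp, yArrow_comp y e k.hom q.x p.x hx, Category.assoc, e2, ptIso_comp]

/-- Lifts form the fibre product. -/
def ptFun : Stk.ofPsh (K f ξ R) ⥤ᵇ FibCat.fp y f where
  toFunctor :=
    { obj := ptObj h𝒳 y e
      map := fun {a b} k => Groth.L24.St.fpHom (F := y) (G := f) (x := ptObj h𝒳 y e a) (y := ptObj h𝒳 y e b)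
        (Over.homMk k.hom (congrArg (fun z : ULift.{u + 1} (Pt f ξ R a.base) => z.down.x) k.map_sec))
        (Over.homMk k.hom (congrArg (fun z : ULift.{u + 1} (Pt f ξ R a.base) => z.down.u) k.map_sec))
        (ptHom_w h𝒳 y e k)
      map_id := fun a => Groth.L24.St.fp_ext (Over.OverMorphism.ext rfl) (Over.OverMorphism.ext rfl)
      map_comp := fun k l => Groth.L24.St.fp_ext (Over.OverMorphism.ext rfl) (Over.OverMorphism.ext rfl) }
  w := rfl

instance : (ptFun h𝒳 y e (f := f)).toFunctor.Faithful :=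
  ⟨fun {a b k l} h => Stk.EltObj.hom_ext (congrArg (fun t => t.hom.fst.left) h)⟩

/-- Second components of morphisms of the fibre product have the same underlying map. -/
theorem fp_snd_left {z w : (FibCat.fp y f).obj} (t : z ⟶ w) :
    ∃ (hz : z.obj.snd.left = z.obj.fst.left) (hw : w.obj.snd.left = w.obj.fst.left),
      t.hom.snd.left = eqToHom hz ≫ t.hom.fst.left ≫ eqToHom hw.symm := by
  have h : (FibCat.overCat U).p.IsHomLift t.hom.fst.left t.hom.snd := FibCat.fp_isHomLift_snd y f t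
  exact ⟨IsHomLift.domain_eq (FibCat.overCat U).p t.hom.fst.left t.hom.snd,
    IsHomLift.codomain_eq (FibCat.overCat U).p t.hom.fst.left t.hom.snd,
    IsHomLift.fac' (FibCat.overCat U).p t.hom.fst.left t.hom.snd⟩

instance : (ptFun h𝒳 y e (f := f)).toFunctor.Full := ⟨fun {a b} t => by
  let p := a.sec.down
  let q := b.sec.down
  let k : a.base ⟶ b.base := t.hom.fst.left
  have hx : k ≫ q.x = p.x := Over.w t.hom.fst
  have hs : t.hom.snd.left = k := by
    obtain ⟨_, _, h⟩ := fp_snd_left y t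
    rw [h]
    show eqToHom _ ≫ k ≫ eqToHom _ = k
    simp
  have hu : k ≫ q.u = p.u := hs ▸ Over.w t.hom.snd
  have hm : p.m = f.map (Over.homMk k hu : Over.mk p.u ⟶ Over.mk q.u) ≫ q.m := by
    have w : y.map t.hom.fst ≫ (ptIso h𝒳 y e q).hom = (ptIso h𝒳 y e p).hom ≫ f.map t.hom.snd := t.hom.w
    have h1 : y.map t.hom.fst ≫ (ptIso h𝒳 y e q).hom ≫ q.m =
        (ptIso h𝒳 y e p).hom ≫ f.map t.hom.snd ≫ q.m := by
      rw [← Category.assoc, w, Category.assoc]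
    rw [ptIso_comp] at h1
    have h2 : y.map t.hom.fst ≫ yArrow y e q.x = yArrow y e p.x :=
      (congrArg (fun z => y.map z ≫ _) (Over.OverMorphism.ext rfl : t.hom.fst =
        (Over.homMk k hx : Over.mk p.x ⟶ Over.mk q.x))).trans (yArrow_comp y e k q.x p.x hx)
    rw [h2, ← ptIso_comp h𝒳 y e p, cancel_epi] at h1
    exact h1.trans (congrArg (· ≫ q.m) (f_map_congr hs))
  have hsec : (K f ξ R).map k.op b.sec = a.sec := by
    refine congrArg ULift.up (Pt.ext hx hu ?_)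
    show f.map (om k q.u) ≫ q.m = f.map (oeq hu) ≫ p.m
    rw [hm, ← Category.assoc, ← f_map_comp]
    exact congrArg (· ≫ q.m) (f_map_congr (Category.id_comp _).symm)
  exact ⟨⟨k, hsec⟩, Groth.L24.St.fp_ext (Over.OverMorphism.ext rfl) (Over.OverMorphism.ext hs.symm)⟩⟩

theorem ptFun_isEquivOver : FibCat.IsEquivOver (ptFun h𝒳 y e (f := f)) := by
  refine Groth.L24.St.isEquivOver_of_overId _ fun z => ?_
  obtain ⟨a, b, i⟩ : Σ' (a : Over R) (b : Over U), y.obj a ≅ f.obj b := ⟨z.obj.fst, z.obj.snd, z.obj.iso⟩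
  let T : Over S := z.obj.fst.left
  let x : T ⟶ R := z.obj.fst.hom
  have hi : 𝒳.p.IsHomLift (𝟙 T) z.obj.iso.hom := z.property
  have hT : z.obj.snd.left = T := by
    have h : 𝒳.p.obj (f.obj z.obj.snd) = T := IsHomLift.codomain_eq 𝒳.p (𝟙 T) z.obj.iso.hom
    exact (f.w_obj z.obj.snd).symm.trans h
  let v : T ⟶ U := eqToHom hT.symm ≫ z.obj.snd.hom
  let cf : (Over.mk x : Over R) ≅ z.obj.fst := Over.isoMk (Iso.refl _) (Category.id_comp _)
  let cs : (Over.mk v : Over U) ≅ z.obj.snd := Over.isoMk (eqToIso hT.symm) rfl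
  have hcf : (FibCat.overCat R).p.IsHomLift (𝟙 T) cf.hom := IsHomLift.map (FibCat.overCat R).p cf.hom
  have hcs : (FibCat.overCat U).p.IsHomLift (𝟙 T) cs.hom :=
    IsHomLift.of_fac' _ _ _ rfl hT (by show eqToHom hT.symm = eqToHom rfl ≫ 𝟙 T ≫ eqToHom hT.symm; simp)
  let j : y.obj (Over.mk x) ≅ f.obj (Over.mk v) :=
    y.toFunctor.mapIso cf ≪≫ z.obj.iso ≪≫ (f.toFunctor.mapIso cs).symm
  have hcs' : 𝒳.p.IsHomLift (𝟙 T) (f.map cs.hom) := inferInstance
  have hcs'' : 𝒳.p.IsHomLift (𝟙 T) (f.toFunctor.mapIso cs).inv :=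
    haveI : 𝒳.p.IsHomLift (𝟙 T) (f.toFunctor.mapIso cs).hom := hcs'
    IsHomLift.lift_id_inv 𝒳.p T (f.toFunctor.mapIso cs)
  have hj : 𝒳.p.IsHomLift (𝟙 T) j.hom :=
    inferInstanceAs (𝒳.p.IsHomLift (𝟙 T) (y.map cf.hom ≫ z.obj.iso.hom ≫ (f.toFunctor.mapIso cs).inv))
  have hj' : 𝒳.p.IsHomLift (𝟙 T) j.inv := IsHomLift.lift_id_inv 𝒳.p T j
  let p : Pt f ξ R T := ⟨x, v, j.inv ≫ yArrow y e x, IsHomLift.comp_lift_id_left' 𝒳.p T _ x _⟩
  have hp : (ptIso h𝒳 y e p).hom = j.hom := by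
    have := ptIso_lift h𝒳 y e p
    have := Fib.stronglyCartesian_of_isFibGrpd 𝒳.p h𝒳 p.x p.m
    refine Functor.IsStronglyCartesian.ext 𝒳.p p.x p.m (𝟙 T) ?_
    rw [ptIso_comp]
    exact (j.hom_inv_id_assoc _).symm
  refine ⟨⟨T, ⟨p⟩⟩, Groth.L24.St.fpIsoMk (F := y) (G := f) cf cs ?_, Groth.L24.St.overId_fp _ ?_⟩
  · show y.map cf.hom ≫ z.obj.iso.hom = (ptIso h𝒳 y e p).hom ≫ f.map cs.hom
    rw [hp]
    show _ = (y.map cf.hom ≫ z.obj.iso.hom ≫ (f.toFunctor.mapIso cs).inv) ≫ (f.toFunctor.mapIso cs).hom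
    simp
  · exact Groth.L24.St.overId_of_lift hcf

/-- The projection of the lifts to the test scheme. -/
theorem spMap_ptFun (hK : Presheaf.IsSheaf (J S) (K f ξ R)) :
    (AlgSt.spMapOfOver (F := ⟨K f ξ R, hK⟩) (BasedFunctor.comp (ptFun h𝒳 y e (f := f)) (FibCat.fpFst y f))).hom =
      { app := fun _ => ↾fun p => ⟨p.down.x⟩ } := by
  ext T p
  refine congrArg ULift.up ?_
  show eqToHom _ ≫ p.down.x = p.down.x
  simp

end Fp

end Groth.L09.Artin.Cand
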