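import Groth.Agent.L09.Artin.Cand.KSp
import Groth.Agent.L09.Artin.Res.Space

/-!
# Sections over a family of finite schemes

For a finite flat `π : Z ⟶ M` and an object `ξ` over `R` the sections over `T` are pairs of maps `g : T ⟶ R`,
`t : T ⟶ M` and a lift of `ξ` to `U` over the finite `T`-scheme `T ×_M Z`. This is an algebraic space: the
pushforward along `R × Z ⟶ R × M` of the space of lifts.
-/

set_option autoImplicit false
set_option backward.isDefEq.respectTransparency false
set_option backward.isDefEq.respectTransparency.types false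

universe u

open CategoryTheory CategoryTheory.Limits AlgebraicGeometry Opposite AlgSp

noncomputable section

namespace Groth.L09.Artin.Cand

open Groth.L23.UHPush

variable {S : Scheme.{u}} {𝒳 : AlgSt.Cat S} {U M Zs : Over S} (f : FibCat.overCat U ⥤ᵇ 𝒳) (π : Zs ⟶ M)

/-- A section over a finite family. -/
structure Sec (ξ : 𝒳.obj) (R T : Over S) : Type (u + 1) where
  g : T ⟶ R
  t : T ⟶ M
  h : ∀ {Z : Over S} (c : Z ⟶ T) (z : Z ⟶ Zs), c ≫ t = z ≫ π → Pt f ξ R Z
  over : ∀ {Z : Over S} (c : Z ⟶ T) (z : Z ⟶ Zs) (e : c ≫ t = z ≫ π), (h c z e).x = c ≫ g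
  nat : ∀ {Z Z' : Over S} (k : Z' ⟶ Z) (c : Z ⟶ T) (z : Z ⟶ Zs) (e : c ≫ t = z ≫ π)
    (e' : (k ≫ c) ≫ t = (k ≫ z) ≫ π), h (k ≫ c) (k ≫ z) e' = (h c z e).restr k

variable {f π}

namespace Sec

variable {ξ η : 𝒳.obj} {R R' T T' T'' : Over S}

theorem ext {p q : Sec f π ξ R T} (hg : p.g = q.g) (ht : p.t = q.t)
    (hh : ∀ {Z : Over S} (c : Z ⟶ T) (z : Z ⟶ Zs) (e : c ≫ p.t = z ≫ π) (e' : c ≫ q.t = z ≫ π),
      p.h c z e = q.h c z e') : p = q := by
  cases p with
  | mk g t h o n =>
    cases q with
    | mk g' t' h' o' n' =>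
      cases hg
      cases ht
      congr 1
      funext Z c z e
      exact hh c z e e

theorem h_congr (p : Sec f π ξ R T) {Z : Over S} {c c' : Z ⟶ T} {z z' : Z ⟶ Zs} (hc : c = c') (hz : z = z')
    (e : c ≫ p.t = z ≫ π) (e' : c' ≫ p.t = z' ≫ π) : p.h c z e = p.h c' z' e' := by
  subst hc hz
  rfl

theorem congr_h {p q : Sec f π ξ R T} (h : p = q) {Z : Over S} {c : Z ⟶ T} {z : Z ⟶ Zs} (e : c ≫ p.t = z ≫ π)
    (e' : c ≫ q.t = z ≫ π) : p.h c z e = q.h c z e' := by
  subst h
  rfl

/-- Restriction. -/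
def restr (k : T' ⟶ T) (p : Sec f π ξ R T) : Sec f π ξ R T' where
  g := k ≫ p.g
  t := k ≫ p.t
  h c z e := p.h (c ≫ k) z (by rw [Category.assoc]; exact e)
  over c z e := (p.over _ z _).trans (Category.assoc _ _ _)
  nat l c z e e' := (p.h_congr (Category.assoc l c k) rfl _ (by
      simp only [Category.assoc] at e' ⊢; exact e')).trans (p.nat l (c ≫ k) z _ _)

@[simp] theorem restr_g (k : T' ⟶ T) (p : Sec f π ξ R T) : (p.restr k).g = k ≫ p.g := rfl
@[simp] theorem restr_t (k : T' ⟶ T) (p : Sec f π ξ R T) : (p.restr k).t = k ≫ p.t := rfl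
theorem restr_h (k : T' ⟶ T) (p : Sec f π ξ R T) {Z : Over S} (c : Z ⟶ T') (z : Z ⟶ Zs)
    (e : c ≫ (p.restr k).t = z ≫ π) :
    (p.restr k).h c z e = p.h (c ≫ k) z (by rw [Category.assoc]; exact e) := rfl

theorem restr_id (p : Sec f π ξ R T) : p.restr (𝟙 T) = p :=
  ext (Category.id_comp _) (Category.id_comp _) fun c _ _ _ => p.h_congr (Category.comp_id c) rfl _ _

theorem restr_comp (k : T'' ⟶ T') (l : T' ⟶ T) (p : Sec f π ξ R T) : p.restr (k ≫ l) = (p.restr l).restr k :=
  ext (Category.assoc _ _ _) (Category.assoc _ _ _) fun _ _ _ _ => p.h_congr (Category.assoc _ _ _).symm rfl _ _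

/-- Composition with an arrow. -/
def push (φ : η ⟶ ξ) (r : R' ⟶ R) [𝒳.p.IsHomLift r φ] (p : Sec f π η R' T) : Sec f π ξ R T where
  g := p.g ≫ r
  t := p.t
  h c z e := (p.h c z e).push φ r
  over c z e := by rw [Pt.push_x, p.over, Category.assoc]
  nat k c z e e' := by rw [p.nat k c z e e', Pt.push_restr]

@[simp] theorem push_g (φ : η ⟶ ξ) (r : R' ⟶ R) [𝒳.p.IsHomLift r φ] (p : Sec f π η R' T) :
    (p.push φ r).g = p.g ≫ r := rfl
@[simp] theorem push_t (φ : η ⟶ ξ) (r : R' ⟶ R) [𝒳.p.IsHomLift r φ] (p : Sec f π η R' T) :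
    (p.push φ r).t = p.t := rfl

theorem push_restr (φ : η ⟶ ξ) (r : R' ⟶ R) [𝒳.p.IsHomLift r φ] (k : T' ⟶ T) (p : Sec f π η R' T) :
    (p.restr k).push φ r = (p.push φ r).restr k :=
  ext (Category.assoc _ _ _) rfl fun _ _ _ _ => rfl

theorem push_comp {ζ : 𝒳.obj} {R'' : Over S} (ψ : ζ ⟶ η) (r' : R'' ⟶ R') [𝒳.p.IsHomLift r' ψ] (φ : η ⟶ ξ)
    (r : R' ⟶ R) [𝒳.p.IsHomLift r φ] (p : Sec f π ζ R'' T) :
    (p.push ψ r').push φ r = p.push (ψ ≫ φ) (r' ≫ r) :=
  ext (Category.assoc _ _ _) rfl fun _ _ _ _ => Pt.push_comp _ _ _ _ _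

theorem push_congr {φ φ' : η ⟶ ξ} {r r' : R' ⟶ R} [𝒳.p.IsHomLift r φ] [𝒳.p.IsHomLift r' φ'] (e : φ = φ')
    (p : Sec f π η R' T) : p.push φ r = p.push φ' r' := by
  subst e
  obtain rfl : r = r' := by
    have hd : 𝒳.p.obj η = R' := IsHomLift.domain_eq 𝒳.p r φ
    have hc : 𝒳.p.obj ξ = R := IsHomLift.codomain_eq 𝒳.p r φ
    subst hd hc
    exact (IsHomLift.eq_of_isHomLift 𝒳.p r φ).trans (IsHomLift.eq_of_isHomLift 𝒳.p r' φ).symm
  rfl

theorem push_id (p : Sec f π ξ R T) (hR : 𝒳.p.obj ξ = R) :
    haveI := IsHomLift.id hR (p := 𝒳.p)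
    p.push (𝟙 ξ) (𝟙 R) = p :=
  haveI := IsHomLift.id hR (p := 𝒳.p)
  ext (Category.comp_id _) rfl fun _ _ _ _ => Pt.push_id _ hR

theorem push_injective (h : FibCat.IsFibGrpd 𝒳.p) (φ : η ⟶ ξ) (r : R' ⟶ R) [𝒳.p.IsHomLift r φ]
    {p q : Sec f π η R' T} (hg : p.g = q.g) (e : p.push φ r = q.push φ r) : p = q :=
  ext hg ((congrArg Sec.t e :)) fun c z e₁ e₂ =>
    Pt.push_injective h φ r (by rw [p.over, q.over, hg]) (congr_h e (c := c) (z := z) e₁ e₂)

theorem exists_push (h : FibCat.IsFibGrpd 𝒳.p) (φ : η ⟶ ξ) (r : R' ⟶ R) [𝒳.p.IsHomLift r φ]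
    (p : Sec f π ξ R T) (g : T ⟶ R') (e : g ≫ r = p.g) :
    ∃ q : Sec f π η R' T, q.g = g ∧ q.push φ r = p := by
  have H : ∀ {Z : Over S} (c : Z ⟶ T) (z : Z ⟶ Zs) (e' : c ≫ p.t = z ≫ π),
      ∃ q : Pt f η R' Z, q.x = c ≫ g ∧ q.push φ r = p.h c z e' := fun c z e' =>
    Pt.exists_push h φ r _ _ (by rw [p.over, Category.assoc, e])
  choose q hq hq' using @H
  exact ⟨{ g := g
           t := p.t
           h := fun c z e' => q c z e'
           over := fun c z e' => hq c z e'
           nat := fun k c z e₁ e₂ => Pt.push_injective h φ r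
             (by rw [hq, Pt.restr_x, hq, Category.assoc])
             (by rw [hq', Pt.push_restr, hq']; exact p.nat k c z e₁ e₂) }, rfl,
    ext e rfl fun c z e₁ e₂ => hq' c z e₁⟩

end Sec

variable (f π) in
/-- The presheaf of sections. -/
def SP (ξ : 𝒳.obj) (R : Over S) : PSp S where
  obj T := Sec f π ξ R T.unop
  map k := ↾fun p => p.restr k.unop
  map_id T := by
    ext p : 3
    exact Sec.restr_id p
  map_comp k l := by
    ext p : 3
    exact Sec.restr_comp l.unop k.unop p

/-- The product of the base with the parameters. -/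
abbrev baseObj (R M : Over S) : Over S := Over.mk (pullback.fst R.hom M.hom ≫ R.hom)

/-- Its first projection. -/
abbrev bFst (R M : Over S) : baseObj R M ⟶ R := Over.homMk (pullback.fst R.hom M.hom) rfl

/-- Its second projection. -/
abbrev bSnd (R M : Over S) : baseObj R M ⟶ M := Over.homMk (pullback.snd R.hom M.hom) pullback.condition.symm

/-- The map into it. -/
abbrev bLift {R M T : Over S} (g : T ⟶ R) (t : T ⟶ M) : T ⟶ baseObj R M :=
  Over.homMk (pullback.lift g.left t.left (by rw [Over.w, Over.w])) (by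
    show pullback.lift _ _ _ ≫ pullback.fst _ _ ≫ R.hom = _
    rw [pullback.lift_fst_assoc, Over.w])

theorem bLift_fst {R M T : Over S} (g : T ⟶ R) (t : T ⟶ M) : bLift g t ≫ bFst R M = g :=
  Over.OverMorphism.ext (pullback.lift_fst _ _ _)

theorem bLift_snd {R M T : Over S} (g : T ⟶ R) (t : T ⟶ M) : bLift g t ≫ bSnd R M = t :=
  Over.OverMorphism.ext (pullback.lift_snd _ _ _)

theorem base_hom_ext {R M T : Over S} {a b : T ⟶ baseObj R M} (h₁ : a ≫ bFst R M = b ≫ bFst R M)
    (h₂ : a ≫ bSnd R M = b ≫ bSnd R M) : a = b :=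
  Over.OverMorphism.ext (pullback.hom_ext (congrArg CommaMorphism.left h₁) (congrArg CommaMorphism.left h₂))

variable (hA : Atl f) {ξ : 𝒳.obj} {R : Over S} (hR : 𝒳.p.obj ξ = R)

/-- The finite scheme over the base. -/
abbrev finObj (π : Zs ⟶ M) (R : Over S) : Over S := pullback (bSnd R M) π

/-- Its projection. -/
abbrev finMap (π : Zs ⟶ M) (R : Over S) : finObj π R ⟶ baseObj R M := pullback.fst (bSnd R M) π

/-- The space over the finite scheme. -/
abbrev liftObj (π : Zs ⟶ M) : Sp S := pullback (xK hA hR) ((yon S).map (finMap π R ≫ bFst R M))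

/-- Its projection. -/
abbrev liftMap (π : Zs ⟶ M) : liftObj hA hR π ⟶ (yon S).obj (finObj π R) :=
  pullback.snd (xK hA hR) ((yon S).map (finMap π R ≫ bFst R M))

/-- A section from an element of the pushforward. -/
def secOfElem {T : Over S} (E : Elem ((yon S).map (finMap π R)) (liftMap hA hR π) T) : Sec f π ξ R T where
  g := (yon S).preimage E.g ≫ bFst R M
  t := (yon S).preimage E.g ≫ bSnd R M
  h c z e := ptEquiv hA hR (E.h c ((yon S).map (pullback.lift (c ≫ (yon S).preimage E.g) z
      (by rw [Category.assoc]; exact e))) (by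
    rw [← Functor.map_comp, pullback.lift_fst, Functor.map_comp, Functor.map_preimage]) ≫ pullback.fst _ _)
  over c z e := by
    refine (yon S).map_injective ?_
    rw [← comp_xK, Category.assoc, pullback.condition, ← Category.assoc, E.over, ← Functor.map_comp,
      pullback.lift_fst_assoc, Category.assoc]
  nat k c z e e' := by
    let a := pullback.lift (f := bSnd R M) (g := π) (c ≫ (yon S).preimage E.g) z
      (by rw [Category.assoc]; exact e)
    have h1 : (yon S).map c ≫ E.g = (yon S).map a ≫ (yon S).map (finMap π R) := by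
      rw [← Functor.map_comp, pullback.lift_fst, Functor.map_comp, Functor.map_preimage]
    have h2 : (yon S).map (k ≫ c) ≫ E.g = ((yon S).map k ≫ (yon S).map a) ≫ (yon S).map (finMap π R) := by
      rw [Category.assoc, ← h1, Functor.map_comp, Category.assoc]
    refine Eq.trans ?_ ((congrArg (fun l => ptEquiv hA hR (l ≫ pullback.fst _ _)) (E.nat k c _ h1 h2)).trans
      ((congrArg (ptEquiv hA hR) (Category.assoc _ _ _)).trans (ptEquiv_comp hA hR k _)))
    refine congrArg (fun l => ptEquiv hA hR (l ≫ pullback.fst _ _)) (E.h_congr rfl ?_ _ _)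
    rw [← Functor.map_comp]
    congr 1
    apply pullback.hom_ext <;> simp [a]

/-- An element of the pushforward from a section. -/
def elemOfSec {T : Over S} (p : Sec f π ξ R T) : Elem ((yon S).map (finMap π R)) (liftMap hA hR π) T where
  g := (yon S).map (bLift p.g p.t)
  h c y e := pullback.lift ((ptEquiv hA hR).symm (p.h c ((yon S).preimage y ≫ pullback.snd _ _) (by
      have e' : c ≫ bLift p.g p.t = (yon S).preimage y ≫ finMap π R := (yon S).map_injective (by
        rw [Functor.map_comp, Functor.map_comp, Functor.map_preimage]; exact e)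
      rw [Category.assoc, ← pullback.condition, ← reassoc_of% e', bLift_snd]))) y (by
    have e' : c ≫ bLift p.g p.t = (yon S).preimage y ≫ finMap π R := (yon S).map_injective (by
      rw [Functor.map_comp, Functor.map_comp, Functor.map_preimage]; exact e)
    rw [comp_xK, Equiv.apply_symm_apply, p.over, ← (yon S).map_preimage y, ← Functor.map_comp,
      ← reassoc_of% e', bLift_fst])
  over c y e := pullback.lift_snd _ _ _
  nat k c y e e' := by
    apply pullback.hom_ext
    · refine (pullback.lift_fst _ _ _).trans (Eq.trans ?_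
        ((Category.assoc _ _ _).trans (congrArg ((yon S).map k ≫ ·) (pullback.lift_fst _ _ _))).symm)
      refine (ptEquiv hA hR).injective ?_
      rw [Equiv.apply_symm_apply, ptEquiv_comp, Equiv.apply_symm_apply]
      have he : (yon S).preimage ((yon S).map k ≫ y) = k ≫ (yon S).preimage y :=
        (yon S).map_injective (by rw [Functor.map_comp, Functor.map_preimage, Functor.map_preimage])
      refine (p.h_congr (z' := k ≫ (yon S).preimage y ≫ pullback.snd _ _) rfl
        ((congrArg (· ≫ pullback.snd _ _) he).trans (Category.assoc _ _ _)) _ ?_).trans (p.nat k c _ _ ?_)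
      all_goals
        have e'' : c ≫ bLift p.g p.t = (yon S).preimage y ≫ finMap π R := (yon S).map_injective (by
          rw [Functor.map_comp, Functor.map_comp, Functor.map_preimage]; exact e)
        simp only [Category.assoc]
        rw [← pullback.condition, ← reassoc_of% e'', bLift_snd]
    · rw [pullback.lift_snd, Category.assoc, pullback.lift_snd]

/-- Sections and elements of the pushforward agree. -/
def secEquiv (T : Over S) : Elem ((yon S).map (finMap π R)) (liftMap hA hR π) T ≃ Sec f π ξ R T where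
  toFun := secOfElem hA hR
  invFun := elemOfSec hA hR
  left_inv E := by
    have hg : bLift ((yon S).preimage E.g ≫ bFst R M) ((yon S).preimage E.g ≫ bSnd R M) = (yon S).preimage E.g :=
      base_hom_ext (bLift_fst _ _) (bLift_snd _ _)
    refine Elem.ext ?_ fun c y e e' => ?_
    · show (yon S).map (bLift ((yon S).preimage E.g ≫ bFst R M) ((yon S).preimage E.g ≫ bSnd R M)) = E.g
      rw [hg, Functor.map_preimage]
    · apply pullback.hom_ext
      · show pullback.lift _ _ _ ≫ _ = _
        rw [pullback.lift_fst]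
        refine (ptEquiv hA hR).injective ?_
        rw [Equiv.apply_symm_apply]
        refine congrArg (fun l => ptEquiv hA hR (l ≫ pullback.fst _ _)) (E.h_congr rfl ?_ _ _)
        conv_rhs => rw [← (yon S).map_preimage y]
        congr 1
        apply pullback.hom_ext
        · rw [pullback.lift_fst]
          refine (yon S).map_injective ?_
          rw [Functor.map_comp, Functor.map_comp, Functor.map_preimage, Functor.map_preimage]
          exact e'
        · rw [pullback.lift_snd]
      · exact (pullback.lift_snd _ _ _).trans (E.over c y e').symm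
  right_inv p := by
    have h0 : (yon S).preimage ((yon S).map (bLift p.g p.t)) = bLift p.g p.t :=
      (yon S).map_injective (Functor.map_preimage _ _)
    refine Sec.ext ?_ ?_ fun c z e e' => ?_
    · show (yon S).preimage ((yon S).map (bLift p.g p.t)) ≫ bFst R M = p.g
      rw [h0, bLift_fst]
    · show (yon S).preimage ((yon S).map (bLift p.g p.t)) ≫ bSnd R M = p.t
      rw [h0, bLift_snd]
    · show ptEquiv hA hR (pullback.lift _ _ _ ≫ _) = _
      rw [pullback.lift_fst, Equiv.apply_symm_apply]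
      exact p.h_congr rfl
        ((congrArg (· ≫ pullback.snd _ _) ((yon S).map_injective (Functor.map_preimage _ _))).trans
          (pullback.lift_snd _ _ _)) _ _

/-- The presheaf of sections is the pushforward. -/
def secIso : (push ((yon S).map (finMap π R)) (liftMap hA hR π)).obj ≅ SP f π ξ R :=
  NatIso.ofComponents (fun T => (secEquiv hA hR T.unop).toIso) fun {T T'} k => by
    ext E : 3
    have hk : (yon S).preimage ((yon S).map k.unop ≫ E.g) = k.unop ≫ (yon S).preimage E.g :=
      (yon S).map_injective (by rw [Functor.map_comp, Functor.map_preimage, Functor.map_preimage])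
    refine Sec.ext ?_ ?_ fun c z e e' => ?_
    · show (yon S).preimage ((yon S).map k.unop ≫ E.g) ≫ bFst R M = k.unop ≫ (yon S).preimage E.g ≫ bFst R M
      rw [hk, Category.assoc]
    · show (yon S).preimage ((yon S).map k.unop ≫ E.g) ≫ bSnd R M = k.unop ≫ (yon S).preimage E.g ≫ bSnd R M
      rw [hk, Category.assoc]
    · refine congrArg (fun l => ptEquiv hA hR (l ≫ pullback.fst _ _)) (E.h_congr rfl ?_ _ _)
      congr 1
      apply pullback.hom_ext
      · rw [pullback.lift_fst, pullback.lift_fst]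
        show c ≫ (yon S).preimage ((yon S).map k.unop ≫ E.g) = (c ≫ k.unop) ≫ (yon S).preimage E.g
        rw [hk, Category.assoc]
      · rw [pullback.lift_snd, pullback.lift_snd]

include hA hR in
theorem isSheaf_SP : Presheaf.IsSheaf (J S) (SP f π ξ R) :=
  (Presheaf.isSheaf_of_iso_iff (secIso hA hR (π := π))).1 (push _ _).property

/-- The sheaf of sections. -/
def SSp (π : Zs ⟶ M) : Sp S := ⟨SP f π ξ R, isSheaf_SP hA hR⟩

/-- The pushforward as the sheaf of sections. -/
def secSpIso (π : Zs ⟶ M) : push ((yon S).map (finMap π R)) (liftMap hA hR π) ≅ SSp hA hR π :=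
  (fullyFaithfulSheafToPresheaf (J S) _).preimageIso (X := push _ _) (Y := SSp hA hR π) (secIso hA hR)

/-- The projection of sections to the base. -/
def gS (π : Zs ⟶ M) : SSp hA hR π ⟶ (yon S).obj R := ObjectProperty.homMk
  { app := fun _ => ↾fun p => ⟨p.g⟩
    naturality := fun _ _ _ => rfl }

/-- Points of the sheaf of sections. -/
def secPtEquiv (π : Zs ⟶ M) {T : Over S} : ((yon S).obj T ⟶ SSp hA hR π) ≃ Sec f π ξ R T :=
  (J S).uliftYonedaEquiv.{u + 1}

theorem secPtEquiv_comp {T T' : Over S} (k : T' ⟶ T) (l : (yon S).obj T ⟶ SSp hA hR π) :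
    secPtEquiv hA hR π ((yon S).map k ≫ l) = (secPtEquiv hA hR π l).restr k :=
  ((J S).uliftYonedaEquiv_naturality l k).symm

theorem comp_gS {T : Over S} (l : (yon S).obj T ⟶ SSp hA hR π) :
    l ≫ gS hA hR π = (yon S).map (secPtEquiv hA hR π l).g := by
  refine (J S).uliftYonedaEquiv.injective ?_
  rw [GrothendieckTopology.uliftYonedaEquiv_comp, GrothendieckTopology.uliftYonedaEquiv_uliftYoneda_map]
  rfl

theorem secSpIso_gS : (secSpIso hA hR π).hom ≫ gS hA hR π =
    proj ((yon S).map (finMap π R)) (liftMap hA hR π) ≫ (yon S).map (bFst R M) := by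
  refine Groth.L23.hom_ext_yon fun T l => ?_
  rw [← Category.assoc, comp_gS, ← Category.assoc, comp_proj]
  have h : secPtEquiv hA hR π (l ≫ (secSpIso hA hR π).hom) = secOfElem hA hR (homEquiv _ _ T l) :=
    (J S).uliftYonedaEquiv_comp l _
  rw [h]
  show (yon S).map ((yon S).preimage _ ≫ bFst R M) = _
  rw [Functor.map_comp, Functor.map_preimage]

variable [IsFinite π.left] [Flat π.left] [LocallyOfFinitePresentation π.left]

omit [Flat π.left] [LocallyOfFinitePresentation π.left] in
theorem finMap_prop {P : MorphismProperty Scheme.{u}} [P.IsStableUnderBaseChange] (h : P π.left) (R : Over S) :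
    P (finMap π R).left :=
  (repWith_yon_map_iff P (finMap π R)).1
    (Groth.L23.repWith_of_isPullback ((IsPullback.of_hasPullback (bSnd R M) π).flip.map (yon S))
      (Groth.L23.repWith_map h))

theorem isAlgSpace_SSp : IsAlgSpace (SSp hA hR π) := by
  have := finMap_prop (P := @IsFinite) (π := π) inferInstance R
  have := finMap_prop (P := @Flat) (π := π) inferInstance R
  have := finMap_prop (P := @LocallyOfFinitePresentation) (π := π) inferInstance R
  exact (Groth.L09.Artin.Res.push_space (finMap π R)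
    (Groth.L24.St.isAlgSpace_pullback (isAlgSpace_KSp hA hR) (IsAlgSpace.yon_obj _) (IsAlgSpace.yon_obj _) _ _)
    (liftMap hA hR π)).1.of_iso (secSpIso hA hR π)

theorem lfp_gS [LocallyOfFinitePresentation M.hom] : LocP @LocallyOfFinitePresentation (gS hA hR π) := by
  have := finMap_prop (P := @IsFinite) (π := π) inferInstance R
  have := finMap_prop (P := @Flat) (π := π) inferInstance R
  have := finMap_prop (P := @LocallyOfFinitePresentation) (π := π) inferInstance R
  have hW : IsAlgSpace (liftObj hA hR π) :=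
    Groth.L24.St.isAlgSpace_pullback (isAlgSpace_KSp hA hR) (IsAlgSpace.yon_obj _) (IsAlgSpace.yon_obj _) _ _
  obtain ⟨hP, hl, -⟩ := Groth.L09.Artin.Res.push_space (finMap π R) hW (liftMap hA hR π)
  have hl' := hl (Groth.L23.locP_of_isPullback Groth.L23.etLocal_lfp (isAlgSpace_KSp hA hR) (IsAlgSpace.yon_obj _)
    (IsAlgSpace.yon_obj _) (IsPullback.of_hasPullback _ _) (flp_xK hA hR).2)
  have hb : LocallyOfFinitePresentation (bFst R M).left :=
    inferInstanceAs (LocallyOfFinitePresentation (pullback.fst R.hom M.hom))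
  rw [show gS hA hR π = (secSpIso hA hR π).inv ≫ proj _ _ ≫ (yon S).map (bFst R M) from
    (Iso.eq_inv_comp _).2 (secSpIso_gS hA hR)]
  exact Groth.L09.Artin.Res.locP_iso_comp _ (Groth.L23.locP_comp Groth.L23.etLocal_lfp hP (IsAlgSpace.yon_obj _)
    (IsAlgSpace.yon_obj _) hl' (Groth.L23.locP_of_repWith Groth.L23.etLocal_lfp (Groth.L23.repWith_map hb)))

end Groth.L09.Artin.Cand
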