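import Groth.Agent.L09.Artin.Cand.Cand
import Groth.Agent.L24.Boot.SpaceCofan

/-!
# The algebraic space of objects with sections

The sheaf of isomorphism classes of objects with sections receives a flat surjective map of finite presentation
from the space of sections of the tautological object over the atlas.
-/

set_option autoImplicit false
set_option backward.isDefEq.respectTransparency false
set_option backward.isDefEq.respectTransparency.types false

universe u

open CategoryTheory CategoryTheory.Limits AlgebraicGeometry Opposite AlgSp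

noncomputable section

namespace Groth.L09.Artin.Cand

open Groth.L23.UHPush (isPullback_of_yon)
open Groth.L09.Artin.Res (FLP)

variable {S : Scheme.{u}} {𝒳 : AlgSt.Cat S} {U M Zs : Over S} {f : FibCat.overCat U ⥤ᵇ 𝒳} {π : Zs ⟶ M}

variable (f) in
/-- The tautological object. -/
abbrev uObj : 𝒳.obj := f.obj (Over.mk (𝟙 U))

variable (f) in
theorem uObj_p : 𝒳.p.obj (uObj f) = U := f.w_obj _

variable (f) in
/-- The arrow to the tautological object. -/
abbrev uArrow {T : Over S} (v : T ⟶ U) : f.obj (Over.mk v) ⟶ uObj f :=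
  f.map (Over.homMk v (Category.comp_id v) : Over.mk v ⟶ Over.mk (𝟙 U))

instance uArrow_lift {T : Over S} (v : T ⟶ U) : 𝒳.p.IsHomLift v (uArrow f v) :=
  have : (FibCat.overCat U).p.IsHomLift v (Over.homMk v (Category.comp_id v) : Over.mk v ⟶ Over.mk (𝟙 U)) :=
    IsHomLift.map (FibCat.overCat U).p (Over.homMk v (Category.comp_id v) : Over.mk v ⟶ Over.mk (𝟙 U))
  inferInstance

instance hmk_lift {T' T : Over S} {v' : T' ⟶ U} {v : T ⟶ U} (k : T' ⟶ T)
    (w : k ≫ (Over.mk v).hom = (Over.mk v').hom) :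
    𝒳.p.IsHomLift k (f.map (Over.homMk k w : Over.mk v' ⟶ Over.mk v)) :=
  have : (FibCat.overCat U).p.IsHomLift k (Over.homMk k w : Over.mk v' ⟶ Over.mk v) :=
    IsHomLift.map (FibCat.overCat U).p (Over.homMk k w : Over.mk v' ⟶ Over.mk v)
  inferInstance

theorem map_uArrow {T T' : Over S} (k : T' ⟶ T) {v : T ⟶ U} {v' : T' ⟶ U} (h : k ≫ v = v') :
    f.map (Over.homMk k h : Over.mk v' ⟶ Over.mk v) ≫ uArrow f v = uArrow f v' := by
  rw [← f_map_comp]
  exact f_map_congr h

variable (hA : Atl f)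

include hA in
theorem exists_hSec {T : Over S} (s : Sec f π (uObj f) U T) :
    ∃ s' : Sec f π (f.obj (Over.mk s.g)) T T, s'.g = 𝟙 T ∧ s'.push (uArrow f s.g) s.g = s :=
  Sec.exists_push hA.grpd (uArrow f s.g) s.g s (𝟙 T) (Category.id_comp _)

/-- The object with section given by a section of the tautological object. -/
@[reducible] def hObj {T : Over S} (s : Sec f π (uObj f) U T) : CObj f π where
  R := T
  obj := f.obj (Over.mk s.g)
  hR := f.w_obj _
  s := (exists_hSec hA s).choose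
  hs := (exists_hSec hA s).choose_spec.1

theorem hObj_push {T : Over S} (s : Sec f π (uObj f) U T) :
    (hObj hA s).s.push (uArrow f s.g) s.g = s := (exists_hSec hA s).choose_spec.2

theorem exists_hHom {T T' : Over S} (k : T' ⟶ T) {s : Sec f π (uObj f) U T} {s' : Sec f π (uObj f) U T'}
    (h : s.restr k = s') :
    ∃ (e : k ≫ s.g = s'.g) (m : hObj hA s' ⟶ hObj hA s), m.k = k ∧
      m.φ = f.map (Over.homMk k e : Over.mk s'.g ⟶ Over.mk s.g) := by
  have e : k ≫ s.g = s'.g := by rw [← h]; rfl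
  let b : (Over.mk s'.g : Over U) ⟶ Over.mk s.g := Over.homMk k e
  have : (FibCat.overCat U).p.IsHomLift k b := IsHomLift.map (FibCat.overCat U).p b
  have hφ : 𝒳.p.IsHomLift k (f.map b) := inferInstance
  refine ⟨e, ⟨k, f.map b, hφ, ?_⟩, rfl, rfl⟩
  refine Sec.push_injective hA.grpd (uArrow f s.g) s.g ?_ ?_
  · show (hObj hA s').s.g ≫ k = k ≫ (hObj hA s).s.g
    rw [(hObj hA s').hs, (hObj hA s).hs]
    exact (Category.id_comp k).trans (Category.comp_id k).symm
  · refine (Sec.push_comp (f.map b) k (uArrow f s.g) s.g _).trans ?_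
    refine ((Sec.push_congr (r' := s'.g) (φ' := uArrow f s'.g) (map_uArrow k e) _).trans (hObj_push hA s')).trans ?_
    exact h.symm.trans ((congrArg (Sec.restr k) (hObj_push hA s)).symm.trans (Sec.push_restr _ _ k _).symm)

variable [Flat π.left] [LocallyOfFinitePresentation π.left] [Surjective π.left]

/-- The sheaf of isomorphism classes. -/
def CSp (π : Zs ⟶ M) [Flat π.left] [LocallyOfFinitePresentation π.left] [Surjective π.left] : Sp S :=
  ⟨Groth.L24.St.classPsh (isFibGrpd_cand (f := f) (π := π) hA.grpd), isSheaf_classPsh hA⟩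

/-- The point of an object. -/
def cPt (A : CObj f π) : (yon S).obj A.R ⟶ CSp hA π :=
  (J S).uliftYonedaEquiv.{u + 1}.symm (Groth.L24.St.cls (𝒳 := Cand f π) ⟨A, rfl⟩)

/-- Restrictions of the point of an object. -/
theorem map_cPt_eq_iff (A B : CObj f π) (k : B.R ⟶ A.R) :
    (yon S).map k ≫ cPt hA A = cPt hA B ↔ ∃ m : B ⟶ A, m.k = k := by
  have h1 : (yon S).map k ≫ cPt hA A = cPt hA B ↔
      Groth.L24.St.pullCls (isFibGrpd_cand (f := f) (π := π) hA.grpd) k (Groth.L24.St.cls (𝒳 := Cand f π) ⟨A, rfl⟩) =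
        Groth.L24.St.cls (𝒳 := Cand f π) ⟨B, rfl⟩ := by
    rw [← (J S).uliftYonedaEquiv.apply_eq_iff_eq, ← GrothendieckTopology.uliftYonedaEquiv_naturality,
      cPt, cPt, Equiv.apply_symm_apply, Equiv.apply_symm_apply]
    exact Iff.rfl
  rw [h1]
  constructor
  · intro h
    obtain ⟨C, φ, hφ⟩ := Groth.L24.St.exists_pull (isFibGrpd_cand (f := f) (π := π) hA.grpd) k
      (⟨A, rfl⟩ : Groth.L24.St.ObjOver (Cand f π) A.R)
    rw [Groth.L24.St.pullCls_eq _ k φ hφ] at h
    obtain ⟨i, hi⟩ := Groth.L24.St.cls_eq_iff.1 h.symm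
    have : (Cand f π).p.IsHomLift (𝟙 B.R) i.hom := hi.lift rfl
    have hl : (Cand f π).p.IsHomLift k (i.hom ≫ φ) :=
      IsHomLift.comp_lift_id_left' (Cand f π).p B.R i.hom k φ
    exact ⟨i.hom ≫ φ, (IsHomLift.eq_of_isHomLift (Cand f π).p k (i.hom ≫ φ)).symm⟩
  · rintro ⟨m, rfl⟩
    have : (Cand f π).p.IsHomLift m.k m := IsHomLift.map (Cand f π).p m
    exact Groth.L24.St.pullCls_eq (𝒳 := Cand f π) _ m.k (a := ⟨A, rfl⟩) (b := ⟨B, rfl⟩) m this

theorem exists_cPt {T : Over S} (l : (yon S).obj T ⟶ CSp hA π) :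
    ∃ (A : CObj f π) (h : A.R = T), (yon S).map (eqToHom h.symm) ≫ cPt hA A = l := by
  obtain ⟨c, rfl⟩ := (J S).uliftYonedaEquiv.symm.surjective l
  obtain ⟨⟨A, hA'⟩, rfl⟩ := Quot.mk_surjective c
  change A.R = T at hA'
  subst hA'
  exact ⟨A, rfl, by rw [eqToHom_refl, CategoryTheory.Functor.map_id, Category.id_comp]; rfl⟩

/-- The map from sections of the tautological object. -/
def χH : SSp hA (uObj_p f) π ⟶ CSp hA π := ObjectProperty.homMk
  { app := fun _ => ↾fun s => Groth.L24.St.cls (𝒳 := Cand f π) ⟨hObj hA s, rfl⟩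
    naturality := fun T T' k => by
      ext s : 3
      change Sec f π (uObj f) U T.unop at s
      obtain ⟨-, m, hm, -⟩ := exists_hHom hA k.unop (rfl : s.restr k.unop = s.restr k.unop)
      have hl : (Cand f π).p.IsHomLift k.unop m :=
        IsHomLift.of_fac (Cand f π).p k.unop m rfl rfl (by
          rw [eqToHom_refl, eqToHom_refl, Category.id_comp, Category.comp_id]
          exact hm.symm)
      exact (Groth.L24.St.pullCls_eq (𝒳 := Cand f π) (isFibGrpd_cand (f := f) (π := π) hA.grpd) k.unop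
        (a := ⟨hObj hA s, rfl⟩) (b := ⟨hObj hA (s.restr k.unop), rfl⟩) m hl).symm }

theorem comp_χH {T : Over S} (l : (yon S).obj T ⟶ SSp hA (uObj_p f) π) :
    l ≫ χH hA = cPt hA (hObj hA (secPtEquiv hA (uObj_p f) π l)) := by
  refine (J S).uliftYonedaEquiv.{u + 1}.injective ?_
  refine ((J S).uliftYonedaEquiv_comp.{u + 1} l (χH hA)).trans ?_
  exact ((J S).uliftYonedaEquiv.{u + 1}.apply_symm_apply _).symm

variable (A : CObj f π)

/-- A section is the transport of the section of the object along a lift. -/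
def IsToH {T : Over S} (p : Pt f A.obj A.R T) (q : Sec f π (uObj f) U T) : Prop :=
  ∃ (hu : q.g = p.u) (m : hObj hA q ⟶ A), m.k = p.x ∧ m.φ = f.map (oeq hu) ≫ p.m

omit [Flat π.left] [LocallyOfFinitePresentation π.left] [Surjective π.left] in
theorem exists_isToH {T : Over S} (p : Pt f A.obj A.R T) : ∃ q, IsToH hA A p q := by
  obtain ⟨s', hs', hsp⟩ := Sec.exists_push hA.grpd p.m p.x (A.s.restr p.x) (𝟙 T) (by
    rw [Category.id_comp, Sec.restr_g, A.hs, Category.comp_id])
  let q := s'.push (uArrow f p.u) p.u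
  have hu : q.g = p.u := by rw [Sec.push_g, hs', Category.id_comp]
  have hl : 𝒳.p.IsHomLift p.x (f.map (oeq hu) ≫ p.m) := IsHomLift.comp_lift_id_left' 𝒳.p T _ p.x p.m
  refine ⟨q, hu, ⟨p.x, f.map (oeq hu) ≫ p.m, hl, ?_⟩, rfl, rfl⟩
  have e : (hObj hA q).s.push (f.map (oeq hu)) (𝟙 T) = s' := by
    refine Sec.push_injective hA.grpd (uArrow f p.u) p.u ?_ ?_
    · show (hObj hA q).s.g ≫ 𝟙 T = s'.g
      rw [(hObj hA q).hs, hs']
      exact Category.comp_id _
    · refine (Sec.push_comp (f.map (oeq hu)) (𝟙 T) (uArrow f p.u) p.u _).trans ?_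
      exact (Sec.push_congr (r' := q.g) (φ' := uArrow f q.g) (map_uArrow (v := p.u) (v' := q.g) (𝟙 T) _) _).trans (hObj_push hA q)
  exact (Sec.push_congr (r' := 𝟙 T ≫ p.x) (φ' := f.map (oeq hu) ≫ p.m) rfl _).trans
    ((Sec.push_comp _ _ _ _ _).symm.trans ((congrArg (Sec.push p.m p.x) e).trans hsp))

omit [Flat π.left] [LocallyOfFinitePresentation π.left] [Surjective π.left] in
theorem isToH_unique {T : Over S} {p : Pt f A.obj A.R T} {q q' : Sec f π (uObj f) U T}
    (h : IsToH hA A p q) (h' : IsToH hA A p q') : q = q' := by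
  obtain ⟨hu, m, hm, hmφ⟩ := h
  obtain ⟨hu', m', hm', hmφ'⟩ := h'
  have hg : q.g = q'.g := hu.trans hu'.symm
  have hc : f.map (oeq hg) ≫ m'.φ = m.φ := by
    rw [hmφ, hmφ', ← Category.assoc, ← f_map_comp]
    exact congrArg (· ≫ p.m) (f_map_congr (Category.id_comp _))
  have hk : m.k = m'.k := hm.trans hm'.symm
  have e : (hObj hA q).s.push (f.map (oeq hg)) (𝟙 T) = (hObj hA q').s := by
    refine Sec.push_injective hA.grpd m'.φ m'.k ?_ ?_
    · show (hObj hA q).s.g ≫ 𝟙 T = (hObj hA q').s.g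
      rw [(hObj hA q).hs, (hObj hA q').hs]
      exact Category.comp_id _
    · refine (Sec.push_comp (f.map (oeq hg)) (𝟙 T) m'.φ m'.k _).trans ?_
      exact (Sec.push_congr (r' := m.k) (φ' := m.φ) hc _).trans (m.w.trans ((congrArg (fun k => A.s.restr k) hk).trans m'.w.symm))
  calc q = (hObj hA q).s.push (uArrow f q.g) q.g := (hObj_push hA q).symm
    _ = ((hObj hA q).s.push (f.map (oeq hg)) (𝟙 T)).push (uArrow f q'.g) q'.g :=
        ((Sec.push_comp _ _ _ _ _).trans (Sec.push_congr (map_uArrow (𝟙 T) _) _)).symm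
    _ = (hObj hA q').s.push (uArrow f q'.g) q'.g := congrArg (Sec.push (uArrow f q'.g) q'.g) e
    _ = q' := hObj_push hA q'

omit [Flat π.left] [LocallyOfFinitePresentation π.left] [Surjective π.left] in
theorem IsToH.restr {T T' : Over S} (k : T' ⟶ T) {p : Pt f A.obj A.R T} {q : Sec f π (uObj f) U T}
    (h : IsToH hA A p q) : IsToH hA A (p.restr k) (q.restr k) := by
  obtain ⟨hu, m, hm, hmφ⟩ := h
  obtain ⟨e, n, hn, hnφ⟩ := exists_hHom hA k (rfl : q.restr k = q.restr k)
  have hu' : (q.restr k).g = (p.restr k).u := congrArg (k ≫ ·) hu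
  refine ⟨hu', n ≫ m, ?_, ?_⟩
  · show n.k ≫ m.k = k ≫ p.x
    rw [hn, hm]
  · show n.φ ≫ m.φ = f.map (oeq hu') ≫ f.map (om k p.u) ≫ p.m
    rw [hnφ, hmφ, ← Category.assoc, ← Category.assoc, ← f_map_comp, ← f_map_comp]
    exact congrArg (· ≫ p.m) (f_map_congr ((Category.comp_id k).trans (Category.id_comp k).symm))

/-- The transport of the section of an object along lifts. -/
def toH : KSp hA A.hR ⟶ SSp hA (uObj_p f) π := ObjectProperty.homMk
  { app := fun _ => ↾fun p => (exists_isToH hA A p.down).choose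
    naturality := fun T T' k => by
      ext p : 3
      exact isToH_unique hA A (exists_isToH hA A (p.down.restr k.unop)).choose_spec
        ((exists_isToH hA A p.down).choose_spec.restr hA A k.unop) }

theorem comp_toH {T : Over S} (l : (yon S).obj T ⟶ KSp hA A.hR) :
    IsToH hA A (ptEquiv hA A.hR l) (secPtEquiv hA (uObj_p f) π (l ≫ toH hA A)) := by
  have e : secPtEquiv hA (uObj_p f) π (l ≫ toH hA A) = (exists_isToH hA A (ptEquiv hA A.hR l)).choose :=
    (J S).uliftYonedaEquiv_comp l _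
  rw [e]
  exact (exists_isToH hA A (ptEquiv hA A.hR l)).choose_spec

/-- The fibre of the space of objects with sections over an object is its space of lifts. -/
theorem isPullback_toH : IsPullback (toH hA A) (xK hA A.hR) (χH hA) (cPt hA A) := by
  refine isPullback_of_yon ?_ (fun Z l l' h₁ h₂ => ?_) fun Z q z hz => ?_
  · refine Groth.L23.hom_ext_yon fun T l => ?_
    rw [← Category.assoc, comp_χH, ← Category.assoc, comp_xK]
    obtain ⟨-, m, hm, -⟩ := comp_toH hA A l
    exact ((map_cPt_eq_iff hA A (hObj hA (secPtEquiv hA (uObj_p f) π (l ≫ toH hA A))) _).2 ⟨m, hm⟩).symm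
  · apply (ptEquiv hA A.hR).injective
    rw [comp_xK, comp_xK] at h₂
    obtain ⟨hu, m, hm, hmφ⟩ := comp_toH hA A l
    have hx := (yon S).map_injective h₂
    have h3 := comp_toH hA A l'
    rw [← h₁] at h3
    obtain ⟨hu', m', hm', hmφ'⟩ := h3
    have e : m = m' := cand_hom_ext hA (hm.trans (hx.trans hm'.symm))
    subst e
    refine Pt.ext hx (hu.symm.trans hu') ?_
    rw [hmφ'] at hmφ
    have h4 := congrArg (f.map (oeq hu.symm) ≫ ·) hmφ
    simp only [← Category.assoc, ← f_map_comp] at h4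
    refine Eq.trans ?_ ((congrArg (· ≫ (ptEquiv hA A.hR l').m) (f_map_congr ?_)).symm.trans h4).symm
    · exact ((congrArg (· ≫ (ptEquiv hA A.hR l).m) ((f_map_congr (Category.id_comp _)).trans
        (f_map_oeq_refl _))).trans (Category.id_comp _)).symm
    · exact Category.id_comp _
  · obtain ⟨z, rfl⟩ := (yon S).map_surjective z
    rw [comp_χH] at hz
    let qs := secPtEquiv hA (uObj_p f) π q
    obtain ⟨m, hm⟩ := (map_cPt_eq_iff hA A (hObj hA qs) z).1 hz.symm
    let p : Pt f A.obj A.R Z := ⟨m.k, qs.g, m.φ, m.lift⟩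
    have hp : IsToH hA A p qs :=
      ⟨rfl, m, rfl, ((congrArg (· ≫ m.φ) (f_map_oeq_refl _)).trans (Category.id_comp _)).symm⟩
    refine ⟨(ptEquiv hA A.hR).symm p, (secPtEquiv hA (uObj_p f) π).injective ?_, ?_⟩
    · have h2 := comp_toH hA A ((ptEquiv hA A.hR).symm p)
      rw [Equiv.apply_symm_apply] at h2
      exact isToH_unique hA A h2 hp
    · rw [comp_xK, Equiv.apply_symm_apply]
      exact congrArg (yon S).map hm

variable [IsFinite π.left]

theorem repBySpWith_χH : RepBySpWith FLP (χH hA (π := π)).hom := by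
  refine (repBySpWith_hom_iff _ _).2 fun T ξ F' fst snd sq => ?_
  obtain ⟨A, rfl, hξ⟩ := exists_cPt hA ξ
  rw [eqToHom_refl, CategoryTheory.Functor.map_id, Category.id_comp] at hξ
  subst hξ
  have sq' := isPullback_toH hA A
  refine ⟨(isAlgSpace_KSp hA A.hR).of_iso (sq'.isoIsPullback _ _ sq), ?_⟩
  rw [← sq.isoIsPullback_hom_snd _ _ sq']
  exact ⟨Groth.L09.Artin.Res.locP_iso_comp _ (flp_xK hA A.hR).1,
    Groth.L09.Artin.Res.locP_iso_comp _ (flp_xK hA A.hR).2⟩

omit [IsFinite π.left] in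
theorem surjective_χH : Function.Surjective (Points.map (χH hA (π := π))) := fun y => by
  obtain ⟨T, g, t, rfl⟩ := Groth.L23.exists_eq_ofPt y
  obtain ⟨A, rfl, hg⟩ := exists_cPt hA g
  rw [eqToHom_refl, CategoryTheory.Functor.map_id, Category.id_comp] at hg
  subst hg
  obtain ⟨p, hp⟩ := surj_xK hA A.hR (Points.ofScheme A.R t)
  refine ⟨Points.map (toH hA A) p, ?_⟩
  rw [← Points.map_comp, (isPullback_toH hA A).w, Points.map_comp, hp, ← Points.ofPt_eq_map_ofScheme]

/-- The sheaf of isomorphism classes of objects with sections is an algebraic space. -/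
theorem isAlgSpace_CSp : IsAlgSpace (CSp hA π) :=
  Groth.L24.Boot.isAlgSpace_of_flat_cover (I := PUnit.{u + 1}) (fun _ => isAlgSpace_SSp hA (uObj_p f) (π := π))
    (fun _ => χH hA) (fun _ => repBySpWith_χH hA)
    (fun y => ⟨⟨⟩, surjective_χH hA y⟩)

end Groth.L09.Artin.Cand
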